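import Groth.Agent.ModTensor.Sheaf

/-!
# Tensor products of sheaves of modules: symmetry, associativity, unit, sheafification
-/

set_option linter.style.haveILetI false
set_option linter.unusedSectionVars false

universe u

open CategoryTheory Limits MonoidalCategory Opposite

namespace Groth.Agent.ModTensor

variable {C : Type u} [SmallCategory C] {J : GrothendieckTopology C} (O : Sheaf J CommRingCat.{u})

/-- The functor of underlying presheaves of modules. -/
noncomputable abbrev preFunctor : ModSite.Mod O ⥤ PMod O.obj :=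
  SheafOfModules.forget (ModSite.ringSh O)

/-- The underlying presheaf of modules. -/
noncomputable abbrev pre (M : ModSite.Mod O) : PMod O.obj := (preFunctor O).obj M

/-- Sheafification, typed over `PMod`. -/
noncomputable abbrev shF : PMod O.obj ⥤ ModSite.Mod O := ModSite.sheafify O

/-- The sheafification unit, typed over `PMod`. -/
noncomputable def shUnit (M : PMod O.obj) : M ⟶ pre O ((shF O).obj M) :=
  (PresheafOfModules.sheafificationAdjunction (𝟙 (ModSite.ringSh O).obj)).unit.app M

theorem shUnit_naturality {M M' : PMod O.obj} (f : M ⟶ M') :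
    f ≫ shUnit O M' = shUnit O M ≫ (preFunctor O).map ((shF O).map f) :=
  (PresheafOfModules.sheafificationAdjunction (𝟙 (ModSite.ringSh O).obj)).unit.naturality f

theorem W_shUnit (M : PMod O.obj) :
    J.W ((PresheafOfModules.toPresheaf _).map (shUnit O M)) := by
  show J.W ((PresheafOfModules.toPresheaf (ModSite.ringSh O).obj).map
    ((PresheafOfModules.sheafificationAdjunction (𝟙 (ModSite.ringSh O).obj)).unit.app M))
  rw [PresheafOfModules.toPresheaf_map_sheafificationAdjunction_unit_app]
  exact J.W_toSheafify _

theorem isIso_sheafify_map {M M' : PMod O.obj} (f : M ⟶ M')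
    (hf : J.W ((PresheafOfModules.toPresheaf _).map f)) : IsIso ((shF O).map f) :=
  Localization.inverts (ModSite.sheafify O) (J.W.inverseImage (PresheafOfModules.toPresheaf _)) _ hf

instance isIso_sheafify_whiskerRight_unit (M P : PMod O.obj) :
    IsIso ((shF O).map (shUnit O M ▷ P)) :=
  isIso_sheafify_map O _ (W_whiskerRight _ P J (W_shUnit O M))

instance isIso_sheafify_whiskerLeft_unit (M P : PMod O.obj) :
    IsIso ((shF O).map (P ◁ shUnit O M)) := by
  have h : P ◁ shUnit O M = (β_ P M).hom ≫ (shUnit O M ▷ P) ≫ (β_ P _).inv := by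
    rw [← Category.assoc, ← BraidedCategory.braiding_naturality_right, Category.assoc,
      Iso.hom_inv_id, Category.comp_id]
  rw [h, Functor.map_comp, Functor.map_comp]
  infer_instance

/-- The tensor product of two sheaves. -/
noncomputable abbrev tens (M N : ModSite.Mod O) : ModSite.Mod O :=
  ((ModSite.tensorBi O).obj M).obj N

theorem tensorBi_map_app {M M' : ModSite.Mod O} (f : M ⟶ M') (N : ModSite.Mod O) :
    ((ModSite.tensorBi O).map f).app N = (shF O).map ((preFunctor O).map f ▷ pre O N) :=
  rfl

theorem tensorBi_obj_map (M : ModSite.Mod O) {N N' : ModSite.Mod O} (g : N ⟶ N') :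
    ((ModSite.tensorBi O).obj M).map g = (shF O).map (pre O M ◁ (preFunctor O).map g) :=
  rfl

/-- Tensoring commutes with sheafification on the left. -/
noncomputable def sheafifyTensorRightIso (M : PMod O.obj) (N : PMod O.obj) :
    (shF O).obj (M ⊗ N) ≅
      (shF O).obj (pre O ((shF O).obj M) ⊗ N) :=
  asIso ((shF O).map (shUnit O M ▷ N))

/-- Tensoring commutes with sheafification on the right. -/
noncomputable def sheafifyTensorLeftIso (M : PMod O.obj) (N : PMod O.obj) :
    (shF O).obj (M ⊗ N) ≅
      (shF O).obj (M ⊗ pre O ((shF O).obj N)) :=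
  asIso ((shF O).map (M ◁ shUnit O N))

/-- The sheafification of a tensor product of presheaves. -/
noncomputable def sheafifyTensorIso (M N : PMod O.obj) :
    (shF O).obj (M ⊗ N) ≅
      tens O ((shF O).obj M) ((shF O).obj N) :=
  sheafifyTensorRightIso O M N ≪≫
    sheafifyTensorLeftIso O (pre O ((shF O).obj M)) N

/-- Symmetry of the tensor product. -/
noncomputable def tensorSymm (N : ModSite.Mod O) :
    (ModSite.tensorBi O).flip.obj N ≅ (ModSite.tensorBi O).obj N :=
  NatIso.ofComponents (fun M => (shF O).mapIso (β_ (pre O M) (pre O N))) fun {M M'} f =>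
    ((shF O).map_comp _ _).symm.trans
      ((congr_arg (shF O).map
        (BraidedCategory.braiding_naturality_left ((preFunctor O).map f) (pre O N))).trans
          ((shF O).map_comp _ _))

/-- Symmetry of the tensor product on objects. -/
noncomputable def tensComm (M N : ModSite.Mod O) : tens O M N ≅ tens O N M :=
  (tensorSymm O N).app M

/-- Associativity of the tensor product, natural in the first variable. -/
noncomputable def tensorAssoc (G F : ModSite.Mod O) :
    (ModSite.tensorBi O).flip.obj G ⋙ (ModSite.tensorBi O).flip.obj F ≅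
      (ModSite.tensorBi O).flip.obj (tens O G F) :=
  NatIso.ofComponents (fun A =>
    (sheafifyTensorRightIso O (pre O A ⊗ pre O G) (pre O F)).symm ≪≫
      (shF O).mapIso (α_ (pre O A) (pre O G) (pre O F)) ≪≫
        sheafifyTensorLeftIso O (pre O A) (pre O G ⊗ pre O F)) fun {A A'} f => by
    let S := shF O
    let a := (preFunctor O).map f
    have h1 : S.map ((preFunctor O).map (S.map (a ▷ pre O G)) ▷ pre O F) ≫
        inv (S.map (shUnit O (pre O A' ⊗ pre O G) ▷ pre O F)) =
        inv (S.map (shUnit O (pre O A ⊗ pre O G) ▷ pre O F)) ≫ S.map ((a ▷ pre O G) ▷ pre O F) := by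
      rw [IsIso.comp_inv_eq, Category.assoc, IsIso.eq_inv_comp, ← S.map_comp, ← S.map_comp,
        ← comp_whiskerRight, ← comp_whiskerRight, shUnit_naturality]
    have h2 : S.map ((a ▷ pre O G) ▷ pre O F) ≫ S.map (α_ _ _ _).hom =
        S.map (α_ _ _ _).hom ≫ S.map (a ▷ (pre O G ⊗ pre O F)) :=
      (S.map_comp _ _).symm.trans ((congr_arg S.map (associator_naturality_left a _ _)).trans
        (S.map_comp _ _))
    have h3 : S.map (a ▷ (pre O G ⊗ pre O F)) ≫ S.map (pre O A' ◁ shUnit O (pre O G ⊗ pre O F)) =
        S.map (pre O A ◁ shUnit O (pre O G ⊗ pre O F)) ≫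
          S.map (a ▷ pre O (S.obj (pre O G ⊗ pre O F))) :=
      (S.map_comp _ _).symm.trans ((congr_arg S.map (whisker_exchange a _).symm).trans
        (S.map_comp _ _))
    show S.map ((preFunctor O).map (S.map (a ▷ pre O G)) ▷ pre O F) ≫ inv _ ≫ S.map _ ≫ S.map _ =
      (inv _ ≫ S.map _ ≫ S.map _) ≫ S.map (a ▷ pre O (S.obj (pre O G ⊗ pre O F)))
    rw [reassoc_of% h1, reassoc_of% h2, h3]
    simp only [Category.assoc]
    rfl

/-- Sheafifying the underlying presheaf gives the sheaf back. -/
noncomputable def sheafifyPreIso (M : ModSite.Mod O) : (shF O).obj (pre O M) ≅ M :=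
  @asIso _ _ _ _ ((PresheafOfModules.sheafificationAdjunction (𝟙 (ModSite.ringSh O).obj)).counit.app M)
    ((NatTrans.isIso_iff_isIso_app
      (PresheafOfModules.sheafificationAdjunction (𝟙 (ModSite.ringSh O).obj)).counit).1 inferInstance M)

/-- The structure sheaf is a unit for the tensor product. -/
noncomputable def tensorUnitRight :
    (ModSite.tensorBi O).flip.obj (ModSite.unit O) ≅ 𝟭 (ModSite.Mod O) :=
  NatIso.ofComponents (fun M => (shF O).mapIso (ρ_ (pre O M)) ≪≫ sheafifyPreIso O M)
    fun {M M'} f => by
    let S := shF O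
    have h1 : S.map ((preFunctor O).map f ▷ 𝟙_ (PMod O.obj)) ≫ S.map (ρ_ (pre O M')).hom =
        S.map (ρ_ (pre O M)).hom ≫ S.map ((preFunctor O).map f) :=
      (S.map_comp _ _).symm.trans ((congr_arg S.map (rightUnitor_naturality _)).trans
        (S.map_comp _ _))
    have h2 : S.map ((preFunctor O).map f) ≫ (sheafifyPreIso O M').hom =
        (sheafifyPreIso O M).hom ≫ f :=
      (PresheafOfModules.sheafificationAdjunction (𝟙 (ModSite.ringSh O).obj)).counit.naturality f
    show S.map ((preFunctor O).map f ▷ 𝟙_ (PMod O.obj)) ≫ S.map _ ≫ _ = (S.map _ ≫ _) ≫ f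
    rw [reassoc_of% h1, h2, Category.assoc]

end Groth.Agent.ModTensor
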