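import Groth.Agent.ModTensor.Criterion
import Groth.Prelude.Def_ModSite2

/-!
# Flatness and stalks at points of a site
-/

set_option linter.style.haveILetI false
set_option linter.unusedSectionVars false

universe u

open CategoryTheory Limits Opposite

namespace Groth.Agent.ModTensor

variable {C : Type u} [SmallCategory C] {J : GrothendieckTopology C} {O : Sheaf J CommRingCat.{u}}
  (p : GrothendieckTopology.Point.{u} J) (F : ModSite.Mod O)

/-- The germ of sections, as an additive map. -/
noncomputable def germHom (X : C) (x : p.fiber.obj X) :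
    (pre O F).obj (op X) →+ ModSite.stalkMod p F :=
  (p.toPresheafFiber X x (ModSite.toAb F).obj).hom

/-- The germ of functions, as a ring map. -/
noncomputable def germRingHom (X : C) (x : p.fiber.obj X) :
    O.obj.obj (op X) →+* ModSite.stalkRing p O :=
  (p.toPresheafFiber X x O.obj).hom

theorem germHom_smul (X : C) (x : p.fiber.obj X) (r : O.obj.obj (op X)) (s : (pre O F).obj (op X)) :
    germHom p F X x (r • s) = germRingHom p X x r • germHom p F X x s :=
  ModSite.germ_smul p F X x r s

theorem germHom_sum_smul (X : C) (x : p.fiber.obj X) {κ : Type*} [Fintype κ]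
    (r : κ → O.obj.obj (op X)) (s : κ → (pre O F).obj (op X)) :
    germHom p F X x (∑ k, r k • s k) = ∑ k, germRingHom p X x (r k) • germHom p F X x (s k) :=
  (map_sum (germHom p F X x) _ _).trans (Finset.sum_congr rfl fun k _ => germHom_smul p F X x _ _)

theorem germHom_res {X Y : C} (g : Y ⟶ X) (y : p.fiber.obj Y) (s : (pre O F).obj (op X)) :
    germHom p F Y y (res (pre O F) g.op s) = germHom p F X (p.fiber.map g y) s :=
  p.toPresheafFiber_w_apply g y (ModSite.toAb F).obj s

theorem germRingHom_ores {X Y : C} (g : Y ⟶ X) (y : p.fiber.obj Y) (r : O.obj.obj (op X)) :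
    germRingHom p Y y (ores O g.op r) = germRingHom p X (p.fiber.map g y) r :=
  p.toPresheafFiber_w_apply g y O.obj r

/-- Two neighbourhoods have a common refinement. -/
theorem exists_refine {X Y : C} (x : p.fiber.obj X) (y : p.fiber.obj Y) :
    ∃ (W : C) (w : p.fiber.obj W) (a : W ⟶ X) (b : W ⟶ Y),
      p.fiber.map a w = x ∧ p.fiber.map b w = y := by
  let e₁ := Functor.elementsMk p.fiber X x
  let e₂ := Functor.elementsMk p.fiber Y y
  exact ⟨(IsCofiltered.min e₁ e₂).1, (IsCofiltered.min e₁ e₂).2, (IsCofiltered.minToLeft e₁ e₂).1,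
    (IsCofiltered.minToRight e₁ e₂).1, (IsCofiltered.minToLeft e₁ e₂).2,
    (IsCofiltered.minToRight e₁ e₂).2⟩

/-- Finitely many conditions stable under refinement hold on a common neighbourhood. -/
theorem exists_common {X : C} (x : p.fiber.obj X) {κ : Type*} [Finite κ]
    (Q : κ → ∀ ⦃V : C⦄, (V ⟶ X) → p.fiber.obj V → Prop)
    (hQ : ∀ k ⦃V W : C⦄ (g : V ⟶ X) (h : W ⟶ V) (w : p.fiber.obj W),
      Q k g (p.fiber.map h w) → Q k (h ≫ g) w)
    (hk : ∀ k, ∃ (V : C) (g : V ⟶ X) (v : p.fiber.obj V), p.fiber.map g v = x ∧ Q k g v) :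
    ∃ (V : C) (g : V ⟶ X) (v : p.fiber.obj V), p.fiber.map g v = x ∧ ∀ k, Q k g v := by
  classical
  haveI := Fintype.ofFinite κ
  suffices h : ∀ s : Finset κ, ∃ (V : C) (g : V ⟶ X) (v : p.fiber.obj V),
      p.fiber.map g v = x ∧ ∀ k ∈ s, Q k g v by
    obtain ⟨V, g, v, hv, hs⟩ := h Finset.univ
    exact ⟨V, g, v, hv, fun k => hs k (Finset.mem_univ k)⟩
  intro s
  induction s using Finset.induction_on with
  | empty =>
    exact ⟨X, 𝟙 X, x, by simp, fun k hk => absurd hk (Finset.notMem_empty k)⟩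
  | insert k s _ ih =>
    obtain ⟨V, g, v, hv, hs⟩ := ih
    obtain ⟨V', g', v', hv', hk'⟩ := hk k
    obtain ⟨T, t, a, b, ha, hb⟩ := exists_refine p v v'
    -- make the two maps to `X` agree on a smaller neighbourhood
    let eT := Functor.elementsMk p.fiber T t
    let eX := Functor.elementsMk p.fiber X x
    let f₁ : eT ⟶ eX := CategoryOfElements.homMk _ _ (a ≫ g) (by simp [eT, eX, ha, hv])
    let f₂ : eT ⟶ eX := CategoryOfElements.homMk _ _ (b ≫ g') (by simp [eT, eX, hb, hv'])
    let q := IsCofiltered.eqHom f₁ f₂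
    have hq : q.1 ≫ a ≫ g = q.1 ≫ b ≫ g' := congr_arg Subtype.val (IsCofiltered.eq_condition f₁ f₂)
    refine ⟨(IsCofiltered.eq f₁ f₂).1, q.1 ≫ a ≫ g, (IsCofiltered.eq f₁ f₂).2, ?_, fun j hj => ?_⟩
    · have h := q.2
      simp [eT] at h
      simp [h, ha, hv]
    · have h : p.fiber.map q.1 (IsCofiltered.eq f₁ f₂).2 = t := q.2
      rcases Finset.mem_insert.1 hj with rfl | hj
      · rw [hq, ← Category.assoc]
        exact hQ j g' (q.1 ≫ b) _ (by simpa [h, hb] using hk')
      · rw [← Category.assoc]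
        exact hQ j g (q.1 ≫ a) _ (by simpa [h, ha] using hs j hj)

/-- Lifting finitely many germs to a common neighbourhood. -/
theorem exists_lift {X : C} (x : p.fiber.obj X) {κ κ' : Type*} [Finite κ] [Finite κ']
    (a : κ → ModSite.stalkRing p O) (m : κ' → ModSite.stalkMod p F) :
    ∃ (V : C) (g : V ⟶ X) (v : p.fiber.obj V), p.fiber.map g v = x ∧
      (∀ k, ∃ r, germRingHom p V v r = a k) ∧ ∀ k, ∃ s, germHom p F V v s = m k := by
  let Q : κ ⊕ κ' → ∀ ⦃V : C⦄, (V ⟶ X) → p.fiber.obj V → Prop := fun k V _ v =>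
    Sum.elim (fun k => ∃ r, germRingHom p V v r = a k) (fun k => ∃ s, germHom p F V v s = m k) k
  obtain ⟨V, g, v, hv, h⟩ := exists_common p x Q (fun k V W _ h w hk => by
      rcases k with k | k
      · obtain ⟨r, hr⟩ := hk
        exact ⟨ores O h.op r, (germRingHom_ores p h w r).trans hr⟩
      · obtain ⟨r, hr⟩ := hk
        exact ⟨res (pre O F) h.op r, (germHom_res p F h w r).trans hr⟩) (fun k => by
      rcases k with k | k
      · obtain ⟨Y, y, r, hr⟩ := p.toPresheafFiber_jointly_surjective (P := O.obj) (a k)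
        obtain ⟨W, w, c, d, hc, hd⟩ := exists_refine p x y
        exact ⟨W, c, w, hc, ores O d.op r, (germRingHom_ores p d w r).trans (by rw [hd]; exact hr)⟩
      · obtain ⟨Y, y, r, hr⟩ := p.toPresheafFiber_jointly_surjective (P := (ModSite.toAb F).obj) (m k)
        obtain ⟨W, w, c, d, hc, hd⟩ := exists_refine p x y
        exact ⟨W, c, w, hc, res (pre O F) d.op r,
          (germHom_res p F d w r).trans (by rw [hd]; exact hr)⟩)
  exact ⟨V, g, v, hv, fun k => h (Sum.inl k), fun k => h (Sum.inr k)⟩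

/-- Finitely many equations between germs hold on a common neighbourhood. -/
theorem exists_eq {X : C} (x : p.fiber.obj X) {κ κ' : Type*} [Finite κ] [Finite κ']
    (a b : κ → O.obj.obj (op X)) (s t : κ' → (pre O F).obj (op X))
    (ha : ∀ k, germRingHom p X x (a k) = germRingHom p X x (b k))
    (hs : ∀ k, germHom p F X x (s k) = germHom p F X x (t k)) :
    ∃ (V : C) (g : V ⟶ X) (v : p.fiber.obj V), p.fiber.map g v = x ∧
      (∀ k, ores O g.op (a k) = ores O g.op (b k)) ∧
      ∀ k, res (pre O F) g.op (s k) = res (pre O F) g.op (t k) := by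
  let Q : κ ⊕ κ' → ∀ ⦃V : C⦄, (V ⟶ X) → p.fiber.obj V → Prop := fun k V g _ =>
    Sum.elim (fun k => ores O g.op (a k) = ores O g.op (b k))
      (fun k => res (pre O F) g.op (s k) = res (pre O F) g.op (t k)) k
  obtain ⟨V, g, v, hv, h⟩ := exists_common p x Q (fun k V W g h w hk => by
      rcases k with k | k
      · show ores O (h ≫ g).op (a k) = ores O (h ≫ g).op (b k)
        rw [op_comp, ores_comp, ores_comp, show ores O g.op (a k) = ores O g.op (b k) from hk]
      · show res (pre O F) (h ≫ g).op (s k) = res (pre O F) (h ≫ g).op (t k)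
        rw [op_comp, res_comp, res_comp,
          show res (pre O F) g.op (s k) = res (pre O F) g.op (t k) from hk]) (fun k => by
      rcases k with k | k
      · obtain ⟨Y, f, y, hy, h⟩ := (p.toPresheafFiber_eq_iff' X x (a k) (b k)).1 (ha k)
        exact ⟨Y, f, y, hy, h⟩
      · obtain ⟨Y, f, y, hy, h⟩ :=
          (p.toPresheafFiber_eq_iff' (P := (ModSite.toAb F).obj) X x (s k) (t k)).1 (hs k)
        exact ⟨Y, f, y, hy, h⟩)
  exact ⟨V, g, v, hv, fun k => h (Sum.inl k), fun k => h (Sum.inr k)⟩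

/-- Stalks of flat modules are flat. -/
theorem flat_stalk (hF : ModSite.IsFlat F) :
    Module.Flat (ModSite.stalkRing p O) (ModSite.stalkMod p F) := by
  refine Module.Flat.of_forall_isTrivialRelation fun {l} {f} {x} h => ?_
  obtain ⟨X₀, ⟨x₀⟩⟩ : ∃ X₀, Nonempty (p.fiber.obj X₀) := by
    obtain ⟨e⟩ := (IsCofiltered.nonempty : Nonempty p.fiber.Elements)
    exact ⟨e.1, ⟨e.2⟩⟩
  obtain ⟨X, g₀, v, -, hf, hx⟩ := exists_lift p F x₀ f x
  choose f' hf' using hf
  choose x' hx' using hx
  have h0 : germHom p F X v (∑ i, f' i • x' i) = germHom p F X v 0 := by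
    rw [germHom_sum_smul, map_zero]
    simp only [hf', hx']
    exact h
  obtain ⟨Y, g, y, hy, -, hz⟩ := exists_eq p F v (κ := Empty) (κ' := PUnit.{1})
    Empty.elim Empty.elim (fun _ => ∑ i, f' i • x' i) (fun _ => 0) (fun e => e.elim) (fun _ => h0)
  have hrel : ∑ i, ores O g.op (f' i) • res (pre O F) g.op (x' i) = 0 := by
    refine Eq.trans ?_ ((hz PUnit.unit).trans (map_zero _))
    rw [map_sum]
    exact Finset.sum_congr rfl fun i _ => (res_smul (pre O F) g.op _ _).symm
  obtain ⟨S, hS, hS'⟩ := (isFlat_iff_equational O F).1 hF Y l _ _ hrel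
  obtain ⟨Z, h, hh, z, hz'⟩ := p.jointly_surjective S hS y
  obtain ⟨n, t, a, ht, ha⟩ := hS' h hh
  refine ⟨n, fun i j => germRingHom p Z z (a i j), fun j => germHom p F Z z (t j), fun i => ?_,
    fun j => ?_⟩
  · calc x i = germHom p F Z z (res (pre O F) h.op (res (pre O F) g.op (x' i))) := by
          rw [germHom_res, germHom_res, hz', hy, hx']
      _ = _ := by
          rw [ht]
          exact germHom_sum_smul p F Z z _ _
  · have h1 := congr_arg (germRingHom p Z z) (ha j)
    rw [map_zero, map_sum] at h1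
    refine Eq.trans (Finset.sum_congr rfl fun i _ => ?_) h1
    rw [map_mul, germRingHom_ores, germRingHom_ores, hz', hy, hf', mul_comm]

/-- Flatness is detected on a conservative family of points. -/
theorem isFlat_of_stalks [HasSheafify J (Type u)] [J.WEqualsLocallyBijective (Type u)]
    (P : ObjectProperty (GrothendieckTopology.Point.{u} J)) (hP : P.IsConservativeFamilyOfPoints)
    (h : ∀ q : GrothendieckTopology.Point.{u} J, P q →
      Module.Flat (ModSite.stalkRing q O) (ModSite.stalkMod q F)) :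
    ModSite.IsFlat F := by
  refine isFlat_of_single O F fun U ι _ f s hs => ?_
  let Good := goodSieve O F (fun _ : PUnit.{u + 1} => f) s
  let arr : (Σ V : C, {g : V ⟶ U // Good g}) → Σ V : C, (V ⟶ U) := fun a => ⟨a.1, a.2.1⟩
  refine J.superset_covering ?_
    ((hP.jointly_reflect_ofArrows_mem (fun a : (Σ V : C, {g : V ⟶ U // Good g}) => (arr a).2)).2 ?_)
  · rw [Sieve.generate_le_iff, Presieve.ofArrows_le_iff]
    exact fun a => a.2.2
  intro Φ x
  haveI := h Φ.obj Φ.property
  have hrel : ∑ i, germRingHom Φ.obj U x (f i) • germHom Φ.obj F U x (s i) = 0 := by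
    rw [← germHom_sum_smul, hs, map_zero]
  obtain ⟨k, a, y, hy, ha⟩ := Module.Flat.isTrivialRelation_of_sum_smul_eq_zero hrel
  obtain ⟨V, g, v, hv, ha', hy'⟩ := exists_lift Φ.obj F x (fun q : ι × Fin k => a q.1 q.2) y
  choose a' ha' using ha'
  choose y' hy' using hy'
  have e₁ : ∀ i, germHom Φ.obj F V v (res (pre O F) g.op (s i)) =
      germHom Φ.obj F V v (∑ j, a' (i, j) • y' j) := fun i => by
    rw [germHom_res, hv, germHom_sum_smul]
    simp only [ha', hy']
    exact hy i
  have e₂ : ∀ j, germRingHom Φ.obj V v (∑ i, a' (i, j) * ores O g.op (f i)) =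
      germRingHom Φ.obj V v 0 := fun j => by
    rw [map_zero, map_sum, ← ha j]
    refine Finset.sum_congr rfl fun i _ => ?_
    rw [map_mul, germRingHom_ores, hv, ha', mul_comm]
  obtain ⟨W, h, w, hw, he₂, he₁⟩ := exists_eq Φ.obj F v
    (fun j => ∑ i, a' (i, j) * ores O g.op (f i)) (fun _ => 0)
    (fun i => res (pre O F) g.op (s i)) (fun i => ∑ j, a' (i, j) • y' j) e₂ e₁
  have hgood : Good (h ≫ g) := by
    refine ⟨ULift.{u} (Fin k), inferInstance, fun j => res (pre O F) h.op (y' j.down),
      fun i j => ores O h.op (a' (i, j.down)), fun i => ?_, fun _ j => ?_⟩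
    · rw [op_comp, res_comp, he₁, map_sum]
      refine Eq.trans ?_ (Equiv.ulift.symm.sum_comp fun j : ULift.{u} (Fin k) =>
        ores O h.op (a' (i, j.down)) • res (pre O F) h.op (y' j.down))
      exact Finset.sum_congr rfl fun j _ => res_smul (pre O F) h.op _ _
    · have h1 := he₂ j.down
      rw [map_zero, map_sum] at h1
      refine Eq.trans (Finset.sum_congr rfl fun i _ => ?_) h1
      rw [map_mul, op_comp, ores_comp]
  exact ⟨⟨W, h ≫ g, hgood⟩, w, by simp [arr, hw, hv]⟩

end Groth.Agent.ModTensor
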