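import Groth.Agent.ModTensor.LocBij
import Groth.Agent.KInj.Instances
import Groth.Prelude.Def_ModSite

/-!
# Tensor products of sheaves of modules: colimits and internal hom
-/

set_option linter.style.haveILetI false
set_option linter.unusedSectionVars false

universe u v' u' v'' u''

open CategoryTheory Limits MonoidalCategory Opposite

namespace Groth.Agent.ModTensor

section Reflective

variable {P : Type u'} [Category.{v'} P] {S : Type u''} [Category.{v''} S] {L : P ⥤ S} {ι : S ⥤ P}
  (adj : L ⊣ ι) [ι.Full] [ι.Faithful]
  {T : Type*} [Category T]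

include adj in
/-- A functor on a reflective subcategory preserves colimits if its extension does and inverts the
units. -/
theorem preservesColimit_of_inverts_unit {J : Type*} [Category J] (K : J ⥤ S) (Ψ : P ⥤ T)
    [∀ X, IsIso (Ψ.map (adj.unit.app X))] [HasColimit (K ⋙ ι)] [PreservesColimit (K ⋙ ι) Ψ] :
    PreservesColimit K (ι ⋙ Ψ) := by
  haveI := adj.counit_isIso_of_R_fully_faithful
  haveI := adj.isLeftAdjoint
  let c := colimit.cocone (K ⋙ ι)
  let e : K ≅ (K ⋙ ι) ⋙ L :=
    (Functor.rightUnitor K).symm ≪≫ Functor.isoWhiskerLeft K (asIso adj.counit).symm ≪≫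
      (Functor.associator K ι L).symm
  have ht : IsColimit ((Cocone.precompose e.hom).obj (L.mapCocone c)) :=
    (IsColimit.precomposeHomEquiv e _).symm (isColimitOfPreserves L (colimit.isColimit _))
  refine preservesColimit_of_preserves_colimit_cocone ht ?_
  let d : Cocone (K ⋙ ι ⋙ Ψ) := { pt := Ψ.obj c.pt
                                  ι := { app := fun j => Ψ.map (c.ι.app j)
                                         naturality := (Ψ.mapCocone c).ι.naturality } }
  have hd : IsColimit d :=
    ⟨fun s => (isColimitOfPreserves Ψ (colimit.isColimit (K ⋙ ι))).desc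
        { pt := s.pt, ι := { app := fun j => s.ι.app j, naturality := s.ι.naturality } },
      fun s j => (isColimitOfPreserves Ψ (colimit.isColimit (K ⋙ ι))).fac _ j,
      fun s m hm => (isColimitOfPreserves Ψ (colimit.isColimit (K ⋙ ι))).uniq
        { pt := s.pt, ι := { app := fun j => s.ι.app j, naturality := s.ι.naturality } } m hm⟩
  refine hd.ofIsoColimit (Cocone.ext (asIso (Ψ.map (adj.unit.app c.pt))) fun j => ?_)
  show Ψ.map (c.ι.app j) ≫ Ψ.map (adj.unit.app c.pt) = Ψ.map (ι.map (_ ≫ L.map (c.ι.app j)))
  have h2 : ι.map (e.hom.app j) = adj.unit.app (ι.obj (K.obj j)) := by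
    have h := adj.right_triangle_components (K.obj j)
    rw [← cancel_mono (ι.map (adj.counit.app (K.obj j))), ← ι.map_comp]
    refine Eq.trans ?_ h.symm
    simp [e]
  rw [← Ψ.map_comp, ι.map_comp, h2]
  exact congr_arg Ψ.map (adj.unit.naturality (c.ι.app j))

include adj in
/-- A reflective subcategory with exact reflector inherits exact colimits. -/
theorem hasExactColimitsOfShape_of_reflective (J : Type*) [Category J] [HasColimitsOfShape J P]
    [HasColimitsOfShape J S] [HasFiniteLimits S] [HasFiniteLimits P] [HasExactColimitsOfShape J P]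
    [PreservesFiniteLimits L] : HasExactColimitsOfShape J S := by
  haveI := adj.counit_isIso_of_R_fully_faithful
  haveI := adj.isLeftAdjoint
  haveI := adj.isRightAdjoint
  let e : (Functor.whiskeringRight J S P).obj ι ⋙ colim ⋙ L ≅ colim :=
    Functor.isoWhiskerLeft _ (preservesColimitNatIso L) ≪≫ (Functor.associator _ _ _).symm ≪≫
      Functor.isoWhiskerRight ((Functor.whiskeringRightObjCompIso ι L) ≪≫
        (Functor.whiskeringRight J S S).mapIso (asIso adj.counit) ≪≫
          Functor.whiskeringRightObjIdIso) colim ≪≫ Functor.leftUnitor _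
  haveI : PreservesFiniteLimits ((Functor.whiskeringRight J S P).obj ι) := ⟨fun _ _ _ => inferInstance⟩
  exact ⟨preservesFiniteLimits_of_natIso e⟩

include adj in
theorem isSeparator_reflector {G : P} (hG : IsSeparator G) : IsSeparator (L.obj G) := by
  rw [isSeparator_def]
  intro X Y f g h
  refine ι.map_injective (hG.def _ _ fun a => ?_)
  have := congr_arg (adj.homEquiv G Y) (h ((adj.homEquiv G X).symm a))
  rwa [adj.homEquiv_naturality_right, adj.homEquiv_naturality_right, Equiv.apply_symm_apply] at this

end Reflective

variable {C : Type u} [SmallCategory C] {J : GrothendieckTopology C} (O : Sheaf J CommRingCat.{u})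

instance isGrothendieckAbelian_mod : IsGrothendieckAbelian.{u} (ModSite.Mod O) := by
  haveI := KInj.isGrothendieckAbelian_presheafOfModules (ModSite.ringSh O).obj
  let adj := PresheafOfModules.sheafificationAdjunction (𝟙 (ModSite.ringSh O).obj)
  haveI : AB5OfSize.{u, u} (ModSite.Mod O) :=
    ⟨fun K _ _ => hasExactColimitsOfShape_of_reflective adj K⟩
  obtain ⟨G, hG⟩ : ∃ G : PresheafOfModules.{u} (ModSite.ringSh O).obj, IsSeparator G :=
    HasSeparator.hasSeparator
  haveI : HasSeparator (ModSite.Mod O) := ⟨⟨_, isSeparator_reflector adj hG⟩⟩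
  exact {}

/-- Tensoring presheaves of modules on the right preserves colimits. -/
instance preservesColimitsOfSize_tensorRight (P : PMod O.obj) :
    PreservesColimitsOfSize.{u, u} (tensorRight P) := by
  refine ⟨fun {K} _ => ⟨fun {F} => ⟨fun {c} hc => ⟨?_⟩⟩⟩⟩
  refine PresheafOfModules.evaluationJointlyReflectsColimits _ _ fun X => ?_
  haveI : PreservesColimitsOfSize.{u, u}
      (tensorRight (C := ModuleCat.{u} (O.obj.obj X)) (P.obj X)) :=
    preservesColimits_of_natIso (BraidedCategory.tensorLeftIsoTensorRight _)
  exact isColimitOfPreserves (tensorRight (C := ModuleCat.{u} (O.obj.obj X)) (P.obj X))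
    (isColimitOfPreserves (PresheafOfModules.evaluation _ X) hc)

/-- The tensor product with a fixed presheaf of modules, followed by sheafification. -/
noncomputable abbrev tensorSheafify (P : PMod O.obj) : PMod O.obj ⥤ ModSite.Mod O :=
  tensorRight P ⋙ ModSite.sheafify O

/-- Tensoring inverts sheafification units. -/
instance isIso_tensorSheafify_unit (P : PMod O.obj) (M : PMod O.obj) :
    IsIso ((tensorSheafify O P).map
      ((PresheafOfModules.sheafificationAdjunction (𝟙 (ModSite.ringSh O).obj)).unit.app M)) := by
  let f : (M : PresheafOfModules.{u} (ModSite.ringSh O).obj) ⟶ _ :=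
    (PresheafOfModules.sheafificationAdjunction (𝟙 (ModSite.ringSh O).obj)).unit.app M
  have hf : J.W ((PresheafOfModules.toPresheaf _).map f) := by
    show J.W ((PresheafOfModules.toPresheaf (ModSite.ringSh O).obj).map
      ((PresheafOfModules.sheafificationAdjunction (𝟙 (ModSite.ringSh O).obj)).unit.app M))
    rw [PresheafOfModules.toPresheaf_map_sheafificationAdjunction_unit_app]
    exact J.W_toSheafify _
  exact Localization.inverts (ModSite.sheafify O)
    (J.W.inverseImage (PresheafOfModules.toPresheaf _)) _ (W_whiskerRight (R := O.obj) f P J hf)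

/-- The tensor product with a sheaf of modules preserves colimits. -/
instance preservesColimitsOfSize_tensorBi (N : ModSite.Mod O) :
    PreservesColimitsOfSize.{u, u} ((ModSite.tensorBi O).flip.obj N) := by
  let adj := PresheafOfModules.sheafificationAdjunction (𝟙 (ModSite.ringSh O).obj)
  let P : PMod O.obj := (SheafOfModules.forget (ModSite.ringSh O)).obj N
  have h1 : PreservesColimitsOfSize.{u, u} (ModSite.sheafify O) :=
    adj.leftAdjoint_preservesColimits
  have hΨ : PreservesColimitsOfSize.{u, u} (tensorSheafify O P) :=
    @comp_preservesColimits _ _ _ _ _ _ (tensorRight P) (ModSite.sheafify O)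
      (preservesColimitsOfSize_tensorRight O P) h1
  haveI : ∀ X, IsIso ((tensorSheafify O P).map (adj.unit.app X)) :=
    fun X => isIso_tensorSheafify_unit O P X
  haveI : PreservesColimitsOfSize.{u, u} (SheafOfModules.forget (ModSite.ringSh O) ⋙
      PresheafOfModules.restrictScalars (𝟙 (ModSite.ringSh O).obj) ⋙ tensorSheafify O P) :=
    ⟨fun {K} _ => ⟨fun {F} =>
      @preservesColimit_of_inverts_unit _ _ _ _ _ _ adj _ _ _ _ _ _ F (tensorSheafify O P) _ _
        hΨ.preservesColimitsOfShape.preservesColimit⟩⟩
  exact preservesColimits_of_natIso (F := SheafOfModules.forget (ModSite.ringSh O) ⋙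
      PresheafOfModules.restrictScalars (𝟙 (ModSite.ringSh O).obj) ⋙ tensorSheafify O P)
    (NatIso.ofComponents (fun _ => Iso.refl _))

/-- Internal homs of sheaves of modules exist. -/
instance hasSheafHom (N : ModSite.Mod O) : ModSite.HasSheafHom N := by
  obtain ⟨G, hG⟩ : ∃ G : ModSite.Mod O, IsSeparator G := HasSeparator.hasSeparator
  haveI : LocallySmall.{u} (ModSite.Mod O) := inferInstance
  haveI : WellPowered.{u} (ModSite.Mod O) := IsGrothendieckAbelian.wellPowered (C := ModSite.Mod O)
  haveI : WellPowered.{u} (ModSite.Mod O)ᵒᵖ := CategoryTheory.Abelian.wellPowered_opposite (C := ModSite.Mod O)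
  exact isLeftAdjoint_of_preservesColimits_of_isSeparating (P := ObjectProperty.singleton G) hG _

end Groth.Agent.ModTensor
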