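import Groth.Agent.ModTensor.Flat

/-!
# Bounded acyclic complexes of flat modules
-/

set_option linter.style.haveILetI false
set_option linter.unusedSectionVars false

universe u

open CategoryTheory Limits

namespace Groth.Agent.ModTensor

variable {C : Type u} [SmallCategory C] {J : GrothendieckTopology C} (O : Sheaf J CommRingCat.{u})
  (M : ChainComplex (ModSite.Mod O) ℤ)

theorem isFlat_of_isZero {Z : ModSite.Mod O} (hZ : IsZero Z) : ModSite.IsFlat Z :=
  (isFlat_iff_preservesMono O Z).2 fun f _ => by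
    refine ⟨fun g h _ => IsZero.eq_of_tgt ?_ g h⟩
    exact ((ModSite.tensorBi O).obj _).map_isZero hZ

/-- The short complex of cycles. -/
noncomputable def cyclesSeq (i : ℤ) : ShortComplex (ModSite.Mod O) :=
  ShortComplex.mk (M.iCycles i) (M.toCycles i (i - 1)) (by
    rw [← cancel_mono (M.iCycles (i - 1)), Category.assoc, zero_comp, M.toCycles_i, M.iCycles_d])

theorem shortExact_cyclesSeq (hac : M.Acyclic) (i : ℤ) : (cyclesSeq O M i).ShortExact := by
  have h : ∀ k j : ℤ, k = (ComplexShape.down ℤ).prev j → Epi (M.toCycles k j) := by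
    rintro k j rfl
    exact ((M.exactAt_iff _).1 (hac _)).epi_toCycles
  have hepi : Epi (M.toCycles i (i - 1)) := h i (i - 1) (by simp)
  let T : ShortComplex (ModSite.Mod O) :=
    ShortComplex.mk (M.iCycles i) (M.d i (i - 1)) (M.iCycles_d i (i - 1))
  have hT : T.Exact := ShortComplex.exact_of_f_is_kernel _ (M.cyclesIsKernel i (i - 1) (by simp))
  let φ : cyclesSeq O M i ⟶ T :=
    { τ₁ := 𝟙 _
      τ₂ := 𝟙 _
      τ₃ := M.iCycles (i - 1)
      comm₁₂ := (Category.id_comp _).trans (Category.comp_id _).symm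
      comm₂₃ := (Category.id_comp _).trans (M.toCycles_i i (i - 1)).symm }
  haveI : Epi φ.τ₁ := inferInstanceAs (Epi (𝟙 _))
  haveI : IsIso φ.τ₂ := inferInstanceAs (IsIso (𝟙 _))
  haveI : Mono φ.τ₃ := inferInstanceAs (Mono (M.iCycles (i - 1)))
  exact { exact := (ShortComplex.exact_iff_of_epi_of_isIso_of_mono φ).2 hT
          mono_f := inferInstanceAs (Mono (M.iCycles i))
          epi_g := hepi }

variable (hb : ∃ i₀ : ℤ, ∀ i, i < i₀ → IsZero (M.X i)) (hM : ∀ i, ModSite.IsFlat (M.X i))
  (hac : M.Acyclic)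

include hb hM hac in
theorem isFlat_cycles (i : ℤ) : ModSite.IsFlat (M.cycles i) := by
  obtain ⟨i₀, h₀⟩ := hb
  suffices h : ∀ (k : ℕ) (i : ℤ), i < i₀ + k → ModSite.IsFlat (M.cycles i) from
    h (i + 1 - i₀).toNat i (by omega)
  intro k
  induction k with
  | zero =>
    intro i hi
    exact isFlat_of_isZero O (IsZero.of_mono (M.iCycles i) (h₀ i (by simpa using hi)))
  | succ k ih =>
    intro i hi
    exact isFlat_X₁ O _ (shortExact_cyclesSeq O M hac i) (hM i) (ih (i - 1) (by omega))

include hb hM hac in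
theorem acyclic_tensor (F : ModSite.Mod O)
    [((ModSite.tensorBi O).flip.obj F).PreservesZeroMorphisms] :
    ((((ModSite.tensorBi O).flip.obj F).mapHomologicalComplex (ComplexShape.down ℤ)).obj M).Acyclic := by
  intro i
  rw [HomologicalComplex.exactAt_iff' _ (i + 1) i (i - 1) (by simp) (by simp)]
  let t := (ModSite.tensorBi O).flip.obj F
  let S := cyclesSeq O M i
  have hS := shortExact_map_of_isFlat_X₃ O S (shortExact_cyclesSeq O M hac i)
    (isFlat_cycles O M hb hM hac (i - 1)) F
  have hS₁ := shortExact_map_of_isFlat_X₃ O _ (shortExact_cyclesSeq O M hac (i + 1))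
    (isFlat_cycles O M hb hM hac (i + 1 - 1)) F
  haveI hmono : Mono (t.map (M.iCycles (i - 1))) :=
    (shortExact_map_of_isFlat_X₃ O _ (shortExact_cyclesSeq O M hac (i - 1))
      (isFlat_cycles O M hb hM hac (i - 1 - 1)) F).mono_f
  have hepi : Epi (t.map (M.toCycles (i + 1) i)) := by
    have h := hS₁.epi_g
    have e : i + 1 - 1 = i := by omega
    change Epi (t.map (M.toCycles (i + 1) (i + 1 - 1))) at h
    rw [e] at h
    exact h
  -- compare with the sequence of cycles
  let mid : ShortComplex (ModSite.Mod O) := ShortComplex.mk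
    (t.map (M.toCycles (i + 1) i) ≫ t.map (M.iCycles i)) (t.map (M.toCycles i (i - 1))) (by
      rw [Category.assoc, ← t.map_comp, show M.iCycles i ≫ M.toCycles i (i - 1) = 0 from S.zero,
        t.map_zero, comp_zero])
  let φ : mid ⟶ S.map t :=
    { τ₁ := t.map (M.toCycles (i + 1) i)
      τ₂ := 𝟙 _
      τ₃ := 𝟙 _
      comm₁₂ := (Category.comp_id _).symm
      comm₂₃ := (Category.id_comp _).trans (Category.comp_id _).symm }
  haveI : Epi φ.τ₁ := hepi
  haveI : IsIso φ.τ₂ := inferInstanceAs (IsIso (𝟙 _))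
  haveI : Mono φ.τ₃ := inferInstanceAs (Mono (𝟙 _))
  have hmid : mid.Exact := (ShortComplex.exact_iff_of_epi_of_isIso_of_mono φ).2 hS.exact
  let ψ : mid ⟶ ((t.mapHomologicalComplex (ComplexShape.down ℤ)).obj M).sc' (i + 1) i (i - 1) :=
    { τ₁ := 𝟙 _
      τ₂ := 𝟙 _
      τ₃ := t.map (M.iCycles (i - 1))
      comm₁₂ := (Category.id_comp _).trans (((congr_arg t.map (M.toCycles_i (i + 1) i)).symm.trans
        (t.map_comp _ _)).trans (Category.comp_id _).symm)
      comm₂₃ := (Category.id_comp _).trans ((congr_arg t.map (M.toCycles_i i (i - 1))).symm.trans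
        (t.map_comp _ _)) }
  haveI : Epi ψ.τ₁ := inferInstanceAs (Epi (𝟙 _))
  haveI : IsIso ψ.τ₂ := inferInstanceAs (IsIso (𝟙 _))
  haveI : Mono ψ.τ₃ := hmono
  exact (ShortComplex.exact_iff_of_epi_of_isIso_of_mono ψ).1 hmid

end Groth.Agent.ModTensor
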