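import Groth.Agent.ModTensor.Basic

/-!
# Flat sheaves of modules
-/

set_option linter.style.haveILetI false
set_option linter.unusedSectionVars false

universe u v' u'

open CategoryTheory Limits MonoidalCategory Opposite

namespace Groth.Agent.ModTensor

variable {C : Type u} [SmallCategory C] {J : GrothendieckTopology C} (O : Sheaf J CommRingCat.{u})

instance additive_tensorBi_flip (N : ModSite.Mod O) : ((ModSite.tensorBi O).flip.obj N).Additive := by
  haveI := hasSheafHom O N
  haveI : PreservesColimitsOfShape (Discrete WalkingPair) ((ModSite.tensorBi O).flip.obj N) :=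
    (Adjunction.ofIsLeftAdjoint ((ModSite.tensorBi O).flip.obj N)).leftAdjoint_preservesColimits
      |>.preservesColimitsOfShape
  haveI := preservesBinaryBiproducts_of_preservesBinaryCoproducts ((ModSite.tensorBi O).flip.obj N)
  exact Functor.additive_of_preservesBinaryBiproducts _

instance preservesFiniteColimits_tensorBi_flip (N : ModSite.Mod O) :
    PreservesFiniteColimits ((ModSite.tensorBi O).flip.obj N) := by
  haveI := hasSheafHom O N
  haveI : PreservesColimitsOfSize.{0, 0} ((ModSite.tensorBi O).flip.obj N) :=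
    (Adjunction.ofIsLeftAdjoint ((ModSite.tensorBi O).flip.obj N)).leftAdjoint_preservesColimits
  exact ⟨fun _ _ _ => inferInstance⟩

instance additive_tensorBi_obj (M : ModSite.Mod O) : ((ModSite.tensorBi O).obj M).Additive :=
  Functor.additive_of_iso (tensorSymm O M)

instance preservesColimitsOfSize_tensorBi_obj (M : ModSite.Mod O) :
    PreservesColimitsOfSize.{u, u} ((ModSite.tensorBi O).obj M) :=
  preservesColimits_of_natIso (tensorSymm O M)

/-- Flatness is preservation of monomorphisms. -/
theorem isFlat_iff_preservesMono (F : ModSite.Mod O) :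
    ModSite.IsFlat F ↔
      ∀ {A B : ModSite.Mod O} (f : A ⟶ B) [Mono f], Mono (((ModSite.tensorBi O).flip.obj F).map f) := by
  refine ⟨fun h A B f _ => ?_, fun h => ⟨?_, inferInstance⟩⟩
  · haveI := h.1
    infer_instance
  · haveI : ((ModSite.tensorBi O).flip.obj F).PreservesMonomorphisms := ⟨fun f _ => h f⟩
    haveI : ((ModSite.tensorBi O).flip.obj F).PreservesHomology :=
      Functor.preservesHomology_of_preservesMonos_and_cokernels _
    exact Functor.preservesFiniteLimits_of_preservesHomology _

theorem isFlat_of_iso {F F' : ModSite.Mod O} (e : F ≅ F') (h : ModSite.IsFlat F) :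
    ModSite.IsFlat F' := by
  haveI := h.1
  exact ⟨preservesFiniteLimits_of_natIso ((ModSite.tensorBi O).flip.mapIso e), inferInstance⟩

/-- Mapping in the first variable commutes with the maps in the second. -/
theorem tensor_exchange {A B M N : ModSite.Mod O} (f : A ⟶ B) (g : M ⟶ N) :
    ((ModSite.tensorBi O).map f).app M ≫ ((ModSite.tensorBi O).obj B).map g =
      ((ModSite.tensorBi O).obj A).map g ≫ ((ModSite.tensorBi O).map f).app N :=
  (((ModSite.tensorBi O).map f).naturality g).symm

/-- A colimit of flat modules is flat when colimits of that shape are exact. -/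
theorem isFlat_of_isColimit {I : Type u'} [Category.{v'} I] [HasColimitsOfShape I (ModSite.Mod O)]
    [HasExactColimitsOfShape I (ModSite.Mod O)] (D : I ⥤ ModSite.Mod O)
    [∀ M : ModSite.Mod O, PreservesColimit D ((ModSite.tensorBi O).obj M)]
    (hD : ∀ i, ModSite.IsFlat (D.obj i)) (c : Cocone D) (hc : IsColimit c) :
    ModSite.IsFlat c.pt := by
  refine (isFlat_iff_preservesMono O _).2 fun {A B} f _ => ?_
  let α : D ⋙ (ModSite.tensorBi O).obj A ⟶ D ⋙ (ModSite.tensorBi O).obj B :=
    Functor.whiskerLeft D ((ModSite.tensorBi O).map f)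
  haveI : ∀ i, Mono (α.app i) := fun i => (isFlat_iff_preservesMono O _).1 (hD i) f
  haveI : Mono α := NatTrans.mono_of_mono_app α
  exact colim.map_mono' α (isColimitOfPreserves ((ModSite.tensorBi O).obj A) hc)
    (isColimitOfPreserves ((ModSite.tensorBi O).obj B) hc) _
    fun i => (tensor_exchange O f (c.ι.app i)).symm

theorem isFlat_sigma {ι : Type u} (F : ι → ModSite.Mod O) (hF : ∀ i, ModSite.IsFlat (F i)) :
    ModSite.IsFlat (∐ F) := by
  haveI : HasFiniteBiproducts (ModSite.Mod O) := Abelian.hasFiniteBiproducts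
  haveI : AB4OfSize.{u} (ModSite.Mod O) := AB4.of_AB5 _
  exact isFlat_of_isColimit O (Discrete.functor F) (fun i => hF i.as) _ (colimit.isColimit _)

theorem mono_of_square {D : Type u'} [Category.{v'} D] {W X Y Z : D} {f : W ⟶ X} {g : X ⟶ Z}
    {f' : W ⟶ Y} {g' : Y ⟶ Z} (h : f ≫ g = f' ≫ g') (_ : IsIso f) (_ : Mono f') (_ : IsIso g') :
    Mono g := by
  haveI := ‹IsIso f›
  rw [(IsIso.eq_inv_comp f).2 h]
  exact mono_comp _ _

/-- The sheafification of an objectwise flat presheaf of modules is flat. -/
theorem isFlat_sheafify (P : PMod O.obj)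
    (hP : ∀ X, Module.Flat (O.obj.obj X) (P.obj X : Type u)) : ModSite.IsFlat ((shF O).obj P) := by
  refine (isFlat_iff_preservesMono O _).2 fun {A B} f _ => ?_
  let a := (preFunctor O).map f
  haveI : Mono a := inferInstanceAs (Mono ((SheafOfModules.forget (ModSite.ringSh O)).map f))
  haveI : Mono (a ▷ P) := PresheafOfModules.mono_of_injective fun {X} => by
    haveI := hP X
    exact Module.Flat.rTensor_preserves_injective_linearMap (lin a X)
      (PresheafOfModules.injective_of_mono a X)
  haveI : PreservesFiniteLimits (shF O) :=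
    inferInstanceAs (PreservesFiniteLimits (PresheafOfModules.sheafification.{u} (𝟙 (ModSite.ringSh O).obj)))
  haveI : Mono ((shF O).map (a ▷ P)) := inferInstance
  have key : (shF O).map (pre O A ◁ shUnit O P) ≫ ((ModSite.tensorBi O).map f).app ((shF O).obj P) =
      (shF O).map (a ▷ P) ≫ (shF O).map (pre O B ◁ shUnit O P) :=
    ((shF O).map_comp _ _).symm.trans ((congr_arg (shF O).map (whisker_exchange a (shUnit O P))).trans
      ((shF O).map_comp _ _))
  show Mono (((ModSite.tensorBi O).map f).app ((shF O).obj P))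
  exact mono_of_square key (isIso_sheafify_whiskerLeft_unit O P (pre O A)) inferInstance
    (isIso_sheafify_whiskerLeft_unit O P (pre O B))

/-- The free presheaf of modules on a representable. -/
noncomputable abbrev freeAt (U : C) : PMod O.obj :=
  (PresheafOfModules.free (O.obj ⋙ forget₂ CommRingCat RingCat)).obj (yoneda.obj U)

theorem isFlat_sheafify_freeAt (U : C) : ModSite.IsFlat ((shF O).obj (freeAt O U)) :=
  isFlat_sheafify O _ fun X =>
    (Module.Flat.finsupp (R := O.obj.obj X) (X.unop ⟶ U) :)

/-- Every module is a quotient of a flat module. -/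
theorem exists_flat_cover (F : ModSite.Mod O) :
    ∃ (G : ModSite.Mod O) (π : G ⟶ F), ModSite.IsFlat G ∧ Epi π := by
  let adj := PresheafOfModules.sheafificationAdjunction (𝟙 (ModSite.ringSh O).obj)
  let Q : (Σ U : C, (pre O F).obj (op U)) → ModSite.Mod O := fun s => (shF O).obj (freeAt O s.1)
  let b : ∀ s : (Σ U : C, (pre O F).obj (op U)), freeAt O s.1 ⟶ pre O F := fun s => PresheafOfModules.freeYonedaEquiv.symm s.2
  let π : ∐ Q ⟶ F := Limits.Sigma.desc fun (s : Σ U : C, (pre O F).obj (op U)) => (adj.homEquiv (freeAt O s.1) F).symm (b s)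
  refine ⟨∐ Q, π, isFlat_sigma O Q (fun s => isFlat_sheafify_freeAt O s.1), ⟨fun {W} g h hgh => ?_⟩⟩
  apply SheafOfModules.hom_ext
  refine PresheafOfModules.freeYoneda.isSeparating _ _ _ fun P hP a => ?_
  obtain ⟨U⟩ := hP
  obtain ⟨s, rfl⟩ := PresheafOfModules.freeYonedaEquiv.symm.surjective a
  have h0 := congr_arg (Sigma.ι Q ⟨U, s⟩ ≫ ·) hgh
  simp only [π, Sigma.ι_desc_assoc] at h0
  have h1 := congr_arg (adj.homEquiv (freeAt O U) W) h0
  rw [adj.homEquiv_naturality_right, adj.homEquiv_naturality_right, Equiv.apply_symm_apply] at h1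
  exact h1

open Abelian in
/-- Tensoring a short exact sequence with flat cokernel keeps the left map injective. -/
theorem mono_tensor_of_isFlat_X₃ (S : ShortComplex (ModSite.Mod O)) (hS : S.ShortExact)
    (hF : ModSite.IsFlat S.X₃) (G : ModSite.Mod O) :
    Mono (((ModSite.tensorBi O).flip.obj G).map S.f) := by
  obtain ⟨P, p, hP, _⟩ := exists_flat_cover O G
  let T := ShortComplex.mk (kernel.ι p) p (kernel.condition p)
  have hT : T.ShortExact :=
    { exact := ShortComplex.exact_of_f_is_kernel _ (kernelIsKernel p) }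
  let t : ModSite.Mod O → ModSite.Mod O ⥤ ModSite.Mod O := fun M => (ModSite.tensorBi O).obj M
  let m : ∀ (N : ModSite.Mod O) {A B : ModSite.Mod O}, (A ⟶ B) → (tens O A N ⟶ tens O B N) :=
    fun N _ _ f => ((ModSite.tensorBi O).map f).app N
  -- right exactness in both variables
  have hrow : ∀ M, (T.map (t M)).Exact ∧ Epi ((t M).map p) := fun M => by
    haveI : PreservesFiniteColimits (t M) := by
      haveI := preservesFiniteColimits_tensorBi_flip O M
      exact preservesFiniteColimits_of_natIso (tensorSymm O M)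
    haveI := hT.epi_g
    exact ⟨hT.exact.map_of_epi_of_preservesCokernel (t M) hT.epi_g inferInstance,
      (inferInstance : Epi ((t M).map T.g))⟩
  have hcol : (S.map ((ModSite.tensorBi O).flip.obj T.X₁)).Exact :=
    hS.exact.map_of_epi_of_preservesCokernel _ hS.epi_g inferInstance
  haveI : Mono ((t S.X₃).map T.f) := by
    haveI := hS.epi_g
    haveI := hF.1
    haveI : PreservesFiniteLimits (t S.X₃) :=
      preservesFiniteLimits_of_natIso (tensorSymm O S.X₃)
    infer_instance
  haveI : Mono (m P S.f) := by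
    haveI := hS.mono_f
    exact (isFlat_iff_preservesMono O P).1 hP S.f
  show Mono (m G S.f)
  refine Preadditive.mono_of_cancel_zero _ fun {W} x hx => ?_
  haveI := (hrow S.X₁).2
  obtain ⟨W₁, π₁, _, p₁, hp₁⟩ := surjective_up_to_refinements_of_epi ((t S.X₁).map p) x
  obtain ⟨W₂, π₂, _, k, hk⟩ := (hrow S.X₂).1.exact_up_to_refinements (p₁ ≫ m P S.f) (by
    show (p₁ ≫ m P S.f) ≫ (t S.X₂).map p = 0
    rw [Category.assoc, show m P S.f ≫ (t S.X₂).map p = (t S.X₁).map p ≫ m G S.f from
      tensor_exchange O S.f p, ← reassoc_of% hp₁, hx, comp_zero])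
  change W₂ ⟶ tens O S.X₂ T.X₁ at k
  change π₂ ≫ p₁ ≫ m P S.f = k ≫ (t S.X₂).map T.f at hk
  obtain ⟨W₃, π₃, _, k₁, hk₁⟩ := hcol.exact_up_to_refinements k (by
    show k ≫ m T.X₁ S.g = 0
    rw [← cancel_mono ((t S.X₃).map T.f), zero_comp, Category.assoc,
      show m T.X₁ S.g ≫ (t S.X₃).map T.f = (t S.X₂).map T.f ≫ m P S.g from
        tensor_exchange O S.g T.f, ← reassoc_of% hk]
    have h0 : m P S.f ≫ m P S.g = 0 := by
      show ((ModSite.tensorBi O).flip.obj P).map S.f ≫ ((ModSite.tensorBi O).flip.obj P).map S.g = 0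
      rw [← Functor.map_comp, S.zero, Functor.map_zero]
    rw [h0, comp_zero, comp_zero])
  change π₃ ≫ k = k₁ ≫ m T.X₁ S.f at hk₁
  have h4 : π₃ ≫ π₂ ≫ p₁ = k₁ ≫ (t S.X₁).map T.f := by
    rw [← cancel_mono (m P S.f), Category.assoc, Category.assoc, hk, reassoc_of% hk₁,
      Category.assoc]
    exact congr_arg (k₁ ≫ ·) (tensor_exchange O S.f T.f)
  rw [← cancel_epi π₁, ← cancel_epi π₂, ← cancel_epi π₃, comp_zero, comp_zero, comp_zero, hp₁,
    reassoc_of% h4]
  exact (congr_arg (k₁ ≫ ·) ((((ModSite.tensorBi O).obj S.X₁).map_comp T.f p).symm.trans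
    ((congr_arg ((ModSite.tensorBi O).obj S.X₁).map T.zero).trans
      (((ModSite.tensorBi O).obj S.X₁).map_zero _ _)))).trans comp_zero

theorem shortExact_map_of_isFlat_X₃ (S : ShortComplex (ModSite.Mod O)) (hS : S.ShortExact)
    (hF : ModSite.IsFlat S.X₃) (G : ModSite.Mod O)
    [((ModSite.tensorBi O).flip.obj G).PreservesZeroMorphisms] :
    (S.map ((ModSite.tensorBi O).flip.obj G)).ShortExact := by
  haveI := hS.epi_g
  exact { exact := hS.exact.map_of_epi_of_preservesCokernel _ hS.epi_g inferInstance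
          mono_f := mono_tensor_of_isFlat_X₃ O S hS hF G
          epi_g := (inferInstance : Epi (((ModSite.tensorBi O).flip.obj G).map S.g)) }

theorem mono_tensor_obj_of_isFlat_X₃ (S : ShortComplex (ModSite.Mod O)) (hS : S.ShortExact)
    (hF : ModSite.IsFlat S.X₃) (G : ModSite.Mod O) :
    Mono (((ModSite.tensorBi O).obj G).map S.f) := by
  haveI := mono_tensor_of_isFlat_X₃ O S hS hF G
  rw [← NatIso.naturality_1 (tensorSymm O G) S.f]
  infer_instance

/-- An extension of flat modules is flat. -/
theorem isFlat_X₂ (S : ShortComplex (ModSite.Mod O)) (hS : S.ShortExact)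
    (h₁ : ModSite.IsFlat S.X₁) (h₃ : ModSite.IsFlat S.X₃) : ModSite.IsFlat S.X₂ := by
  refine (isFlat_iff_preservesMono O _).2 fun {A B} f _ => ?_
  haveI : ∀ M, Mono (((ModSite.tensorBi O).obj M).map S.f) :=
    mono_tensor_obj_of_isFlat_X₃ O S hS h₃
  haveI : Mono (((ModSite.tensorBi O).map f).app S.X₁) := (isFlat_iff_preservesMono O _).1 h₁ f
  haveI : Mono (((ModSite.tensorBi O).map f).app S.X₃) := (isFlat_iff_preservesMono O _).1 h₃ f
  have hA : (S.map ((ModSite.tensorBi O).obj A)).Exact := by
    haveI := preservesFiniteColimits_tensorBi_flip O A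
    haveI : PreservesFiniteColimits ((ModSite.tensorBi O).obj A) :=
      preservesFiniteColimits_of_natIso (tensorSymm O A)
    exact hS.exact.map_of_epi_of_preservesCokernel _ hS.epi_g inferInstance
  show Mono (((ModSite.tensorBi O).map f).app S.X₂)
  refine Preadditive.mono_of_cancel_zero _ fun {W} x hx => ?_
  have h3 : x ≫ ((ModSite.tensorBi O).obj A).map S.g = 0 := by
    rw [← cancel_mono (((ModSite.tensorBi O).map f).app S.X₃), zero_comp, Category.assoc,
      ← tensor_exchange, reassoc_of% hx, zero_comp]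
  obtain ⟨W', π, _, y, hy⟩ := hA.exact_up_to_refinements x h3
  change W' ⟶ ((ModSite.tensorBi O).obj A).obj S.X₁ at y
  change π ≫ x = y ≫ ((ModSite.tensorBi O).obj A).map S.f at hy
  have hy0 : y = 0 := by
    rw [← cancel_mono (((ModSite.tensorBi O).map f).app S.X₁),
      ← cancel_mono (((ModSite.tensorBi O).obj B).map S.f), zero_comp, zero_comp, Category.assoc,
      tensor_exchange, ← reassoc_of% hy, hx, comp_zero]
  rw [← cancel_epi π, comp_zero, hy, hy0, zero_comp]

/-- The kernel of a map of flat modules with flat cokernel is flat. -/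
theorem isFlat_X₁ (S : ShortComplex (ModSite.Mod O)) (hS : S.ShortExact)
    (h₂ : ModSite.IsFlat S.X₂) (h₃ : ModSite.IsFlat S.X₃) : ModSite.IsFlat S.X₁ := by
  refine (isFlat_iff_preservesMono O _).2 fun {A B} f _ => ?_
  haveI := mono_tensor_obj_of_isFlat_X₃ O S hS h₃ A
  haveI : Mono (((ModSite.tensorBi O).map f).app S.X₂) := (isFlat_iff_preservesMono O _).1 h₂ f
  haveI : Mono (((ModSite.tensorBi O).map f).app S.X₁ ≫ ((ModSite.tensorBi O).obj B).map S.f) := by
    rw [tensor_exchange]
    exact mono_comp _ _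
  exact mono_of_mono (((ModSite.tensorBi O).map f).app S.X₁) (((ModSite.tensorBi O).obj B).map S.f)

theorem isFlat_tens (G F : ModSite.Mod O) (hG : ModSite.IsFlat G) (hF : ModSite.IsFlat F) :
    ModSite.IsFlat (tens O G F) := by
  haveI := hG.1
  haveI := hF.1
  exact ⟨preservesFiniteLimits_of_natIso (tensorAssoc O G F), inferInstance⟩

end Groth.Agent.ModTensor
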