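import Groth.Agent.ModTensor.Flat

/-!
# The equational criterion of flatness for sheaves of modules
-/

set_option linter.style.haveILetI false
set_option linter.unusedSectionVars false

universe u

open CategoryTheory Limits MonoidalCategory Opposite TensorProduct

namespace Groth.Agent.ModTensor

variable {C : Type u} [SmallCategory C] {J : GrothendieckTopology C} (O : Sheaf J CommRingCat.{u})

/-- Restriction of sections of the structure sheaf. -/
noncomputable abbrev ores {X Y : Cᵒᵖ} (h : X ⟶ Y) : O.obj.obj X →+* O.obj.obj Y := (O.obj.map h).hom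

theorem ores_comp {X Y Z : Cᵒᵖ} (h : X ⟶ Y) (k : Y ⟶ Z) (r : O.obj.obj X) :
    ores O (h ≫ k) r = ores O k (ores O h r) :=
  ConcreteCategory.congr_hom (O.obj.map_comp h k) r

theorem res_comp {R : Cᵒᵖ ⥤ CommRingCat.{u}} (M : PMod R) {X Y Z : Cᵒᵖ} (h : X ⟶ Y) (k : Y ⟶ Z)
    (m : M.obj X) : res M (h ≫ k) m = res M k (res M h m) :=
  ConcreteCategory.congr_hom (M.presheaf.map_comp h k) m

theorem res_id {R : Cᵒᵖ ⥤ CommRingCat.{u}} (M : PMod R) {X : Cᵒᵖ} (m : M.obj X) :
    res M (𝟙 X) m = m :=
  ConcreteCategory.congr_hom (M.presheaf.map_id X) m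

theorem ores_id {X : Cᵒᵖ} (r : O.obj.obj X) : ores O (𝟙 X) r = r :=
  ConcreteCategory.congr_hom (O.obj.map_id X) r

variable (F : ModSite.Mod O)

/-- The sieve on which a system of linear relations between sections becomes trivial. -/
def goodSieve {U : C} {κ ι : Type u} [Fintype ι] (c : κ → ι → O.obj.obj (op U))
    (s : ι → (pre O F).obj (op U)) : Sieve U where
  arrows V g := ∃ (ν : Type u) (_ : Fintype ν) (t : ν → (pre O F).obj (op V))
    (a : ι → ν → O.obj.obj (op V)),
    (∀ j, res (pre O F) g.op (s j) = ∑ k, a j k • t k) ∧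
      ∀ i k, ∑ j, a j k * ores O g.op (c i j) = 0
  downward_closed := by
    rintro V W g ⟨ν, _, t, a, ht, ha⟩ h
    refine ⟨ν, inferInstance, fun k => res (pre O F) h.op (t k), fun j k => ores O h.op (a j k),
      fun j => ?_, fun i k => ?_⟩
    · rw [op_comp, res_comp, ht, map_sum]
      exact Finset.sum_congr rfl fun k _ => res_smul (pre O F) h.op (a j k) (t k)
    · have h0 := congr_arg (ores O h.op) (ha i k)
      rw [map_zero, map_sum] at h0
      rw [← h0]
      refine Finset.sum_congr rfl fun j _ => ?_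
      rw [map_mul, op_comp, ores_comp]

theorem goodSieve_pullback_le {U : C} {κ κ' ι : Type u} [Fintype ι] (c : κ → ι → O.obj.obj (op U))
    (s : ι → (pre O F).obj (op U)) (e : κ' → κ) (he : Function.Surjective e) :
    goodSieve O F (fun i => c (e i)) s ≤ goodSieve O F c s := by
  rintro V g ⟨ν, _, t, a, ht, ha⟩
  refine ⟨ν, inferInstance, t, a, ht, fun i k => ?_⟩
  obtain ⟨i', rfl⟩ := he i
  exact ha i' k

/-- One linear relation at a time is enough. -/
theorem goodSieve_mem_of_single
    (H : ∀ (U : C) (ι : Type u) [Fintype ι] (f : ι → O.obj.obj (op U))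
      (s : ι → (pre O F).obj (op U)), ∑ j, f j • s j = 0 →
      goodSieve O F (fun _ : PUnit.{u + 1} => f) s ∈ J U)
    {U : C} {κ ι : Type u} [Fintype κ] [Fintype ι] (c : κ → ι → O.obj.obj (op U))
    (s : ι → (pre O F).obj (op U)) (hc : ∀ i, ∑ j, c i j • s j = 0) :
    goodSieve O F c s ∈ J U := by
  suffices h : ∀ (m : ℕ) (U : C) (ι : Type u) [Fintype ι] (c : ULift.{u} (Fin m) → ι → O.obj.obj (op U))
      (s : ι → (pre O F).obj (op U)), (∀ i, ∑ j, c i j • s j = 0) → goodSieve O F c s ∈ J U by
    let e : ULift.{u} (Fin (Fintype.card κ)) → κ := fun i => (Fintype.equivFin κ).symm i.down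
    exact J.superset_covering
      (goodSieve_pullback_le O F c s e fun i => ⟨⟨Fintype.equivFin κ i⟩, by simp [e]⟩)
      (h _ U ι (fun i => c (e i)) s fun i => hc (e i))
  intro m
  induction m with
  | zero =>
    intro U ι _ c s _
    refine J.superset_covering (fun V g _ => ?_) (J.top_mem U)
    refine ⟨ι, inferInstance, fun k => res (pre O F) g.op (s k), fun j k => by
      classical exact if j = k then 1 else 0, fun j => ?_, fun i => i.down.elim0⟩
    classical simp
  | succ m ih =>
    intro U ι _ c s hc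
    refine J.transitive (H U ι (c ⟨0⟩) s (hc ⟨0⟩)) _ fun V g hg => ?_
    obtain ⟨ν, _, t, a, ht, ha⟩ := hg
    have h0 := fun k => ha PUnit.unit k
    let c' : ULift.{u} (Fin m) → ν → O.obj.obj (op V) :=
      fun i k => ∑ j, a j k * ores O g.op (c ⟨i.down.succ⟩ j)
    have hc' : ∀ i, ∑ k, c' i k • t k = 0 := fun i => by
      have h := congr_arg (res (pre O F) g.op) (hc ⟨i.down.succ⟩)
      rw [map_zero, map_sum] at h
      refine Eq.trans ?_ h
      simp only [c', Finset.sum_smul]
      rw [Finset.sum_comm]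
      refine Finset.sum_congr rfl fun j _ => ?_
      rw [res_smul, ht, Finset.smul_sum]
      refine Finset.sum_congr rfl fun k _ => ?_
      rw [smul_smul, mul_comm]
    refine J.superset_covering ?_ (ih V ν c' t hc')
    rintro W h ⟨μ, _, t', a', ht', ha'⟩
    refine ⟨μ, inferInstance, t', fun j l => ∑ k, ores O h.op (a j k) * a' k l, fun j => ?_,
      fun i l => ?_⟩
    · rw [op_comp, res_comp, ht, map_sum]
      simp only [Finset.sum_smul]
      rw [Finset.sum_comm]
      refine Finset.sum_congr rfl fun k _ => ?_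
      rw [res_smul, ht', Finset.smul_sum]
      exact Finset.sum_congr rfl fun l _ => smul_smul _ _ _
    · have key : ∑ j, (∑ k, ores O h.op (a j k) * a' k l) * ores O (h ≫ g).op (c i j) =
          ∑ k, a' k l * ores O h.op (∑ j, a j k * ores O g.op (c i j)) := by
        simp only [Finset.sum_mul, map_sum, Finset.mul_sum]
        rw [Finset.sum_comm]
        refine Finset.sum_congr rfl fun k _ => Finset.sum_congr rfl fun j _ => ?_
        rw [op_comp, ores_comp, map_mul]
        ring
      rw [key]
      obtain ⟨i⟩ := i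
      induction i using Fin.cases with
      | zero => simp [h0]
      | succ i => exact ha' ⟨i⟩ l

/-- Sheafifying a locally injective map of presheaves gives a monomorphism. -/
theorem mono_sheafify_of_isLocallyInjective {P Q : PMod O.obj} (g : P ⟶ Q)
    (h : ∀ (U : C) (x : P.obj (op U)), lin g (op U) x = 0 → zeroSieve P x ∈ J U) :
    Mono ((shF O).map g) := by
  haveI : Presheaf.IsLocallyInjective J ((PresheafOfModules.toPresheaf _).map g) := by
    refine ⟨fun {X} x y hxy => ?_⟩
    obtain ⟨U⟩ := X
    change P.obj (op U) at x y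
    refine J.superset_covering (fun V k hk => ?_)
      (h U (x - y) (by rw [map_sub, sub_eq_zero]; exact hxy))
    exact sub_eq_zero.1 ((map_sub (res P k.op) x y).symm.trans hk)
  have hP := (J.W_iff_isLocallyBijective _).1 (W_shUnit O P)
  have hQ := (J.W_iff_isLocallyBijective _).1 (W_shUnit O Q)
  haveI := hP.1
  haveI := hP.2
  haveI := hQ.1
  haveI : Presheaf.IsLocallyInjective J ((PresheafOfModules.toPresheaf _).map (shUnit O P) ≫
      (PresheafOfModules.toPresheaf _).map ((preFunctor O).map ((shF O).map g))) := by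
    rw [← Functor.map_comp, ← shUnit_naturality, Functor.map_comp]
    infer_instance
  haveI := Presheaf.isLocallyInjective_of_isLocallyInjective_of_isLocallySurjective J
    ((PresheafOfModules.toPresheaf _).map (shUnit O P))
    ((PresheafOfModules.toPresheaf _).map ((preFunctor O).map ((shF O).map g)))
  haveI : Sheaf.IsLocallyInjective ((SheafOfModules.toSheaf (ModSite.ringSh O)).map ((shF O).map g)) :=
    this
  haveI := Sheaf.mono_of_isLocallyInjective ((SheafOfModules.toSheaf (ModSite.ringSh O)).map ((shF O).map g))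
  exact (SheafOfModules.toSheaf (ModSite.ringSh O)).mono_of_mono_map ((inferInstance :
    Mono ((SheafOfModules.toSheaf (ModSite.ringSh O)).map ((shF O).map g))))

/-- The equational criterion gives flatness. -/
theorem isFlat_of_single
    (H : ∀ (U : C) (ι : Type u) [Fintype ι] (f : ι → O.obj.obj (op U))
      (s : ι → (pre O F).obj (op U)), ∑ j, f j • s j = 0 →
      goodSieve O F (fun _ : PUnit.{u + 1} => f) s ∈ J U) :
    ModSite.IsFlat F := by
  classical
  refine (isFlat_iff_preservesMono O _).2 fun {A B} φ _ => ?_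
  let a := (preFunctor O).map φ
  haveI : Mono a := inferInstanceAs (Mono ((SheafOfModules.forget (ModSite.ringSh O)).map φ))
  refine mono_sheafify_of_isLocallyInjective O (a ▷ pre O F) fun U x hx => ?_
  change ((pre O A).obj (op U) : Type u) ⊗[O.obj.obj (op U)] ((pre O F).obj (op U) : Type u) at x
  rw [whiskerRight_apply] at hx
  obtain ⟨S, rfl⟩ := TensorProduct.exists_finset x
  let R := O.obj.obj (op U)
  let Bm := ((pre O B).obj (op U) : Type u)
  let π : (Bm →₀ R) →ₗ[R] Bm := Finsupp.linearCombination R id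
  have hπ : Function.Surjective π := fun b => ⟨Finsupp.single b 1, by simp [π]⟩
  let y : (Bm →₀ R) ⊗[R] ((pre O F).obj (op U) : Type u) :=
    ∑ p : S, Finsupp.single (lin a (op U) p.1.1) (1 : R) ⊗ₜ[R] p.1.2
  have hy : LinearMap.rTensor ((pre O F).obj (op U)) π y = 0 := by
    rw [map_sum] at hx
    simp only [y, map_sum, LinearMap.rTensor_tmul, π, Finsupp.linearCombination_single, id, one_smul]
    exact (Finset.sum_coe_sort S
      (fun p => lin a (op U) p.1 ⊗ₜ[R] p.2)).trans hx
  have hex : Function.Exact (LinearMap.ker π).subtype π := LinearMap.exact_subtype_ker_map π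
  obtain ⟨z, hz⟩ := (rTensor_exact (M := LinearMap.ker π) (N := Bm →₀ R) (f := (LinearMap.ker π).subtype) (g := π)
    ((pre O F).obj (op U)) hex hπ y).1 hy
  obtain ⟨T, rfl⟩ := TensorProduct.exists_finset z
  let I : Finset Bm := S.image (fun p => lin a (op U) p.1) ∪ T.biUnion fun r => r.1.1.support
  let s : S ⊕ T → (pre O F).obj (op U) := Sum.elim (fun p => p.1.2) (fun r => r.1.2)
  let w : S ⊕ T → (Bm →₀ R) :=
    Sum.elim (fun p => Finsupp.single (lin a (op U) p.1.1) (1 : R)) (fun r => -r.1.1.1)
  let c : I → S ⊕ T → R := fun i q => w q i.1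
  have hc : ∀ i, ∑ q, c i q • s q = 0 := fun i => by
    have h := congr_arg ((TensorProduct.lid R ((pre O F).obj (op U))).toLinearMap ∘ₗ
      LinearMap.rTensor ((pre O F).obj (op U)) (Finsupp.lapply (M := R) (R := R) i.1)) hz
    simp only [map_sum, LinearMap.rTensor_tmul, LinearMap.comp_apply, y, LinearEquiv.coe_coe,
      TensorProduct.lid_tmul, Finsupp.lapply_apply, Submodule.subtype_apply] at h
    rw [Fintype.sum_sum_type]
    simp only [c, w, s, Sum.elim_inl, Sum.elim_inr, Finsupp.neg_apply, neg_smul,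
      Finset.sum_neg_distrib]
    rw [← h, ← Finset.sum_coe_sort T, add_neg_cancel]
  refine J.superset_covering ?_ (goodSieve_mem_of_single O F H c s hc)
  rintro V g ⟨ν, _, t, b, ht, hb⟩
  let α : ν → (pre O A).obj (op V) := fun k => ∑ p : S, b (Sum.inl p) k • res (pre O A) g.op p.1.1
  have hα : ∀ k, α k = 0 := fun k => by
    have key : ∀ q, q ∈ Set.range w →
        Finsupp.linearCombination (O.obj.obj (op V)) (fun i : I => res (pre O B) g.op i.1)
          (Finsupp.equivFunOnFinite.symm fun i => ores O g.op (q i.1)) = res (pre O B) g.op (π q) := by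
      rintro q ⟨j, rfl⟩
      have hsupp : (w j).support ⊆ I := by
        rcases j with p | r
        · refine (Finsupp.support_single_subset).trans (Finset.singleton_subset_iff.2 ?_)
          exact Finset.mem_union_left _ (Finset.mem_image_of_mem _ p.2)
        · intro b hb
          refine Finset.mem_union_right _ (Finset.mem_biUnion.2 ⟨r.1, r.2, ?_⟩)
          simpa [w] using hb
      rw [Finsupp.linearCombination_apply, Finsupp.sum_fintype _ _ (fun _ => by simp),
        show π (w j) = ∑ i ∈ I, w j i • i by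
          simp only [π, Finsupp.linearCombination_apply]
          exact Finsupp.sum_of_support_subset _ hsupp _ (fun _ _ => zero_smul _ _),
        ← Finset.sum_coe_sort I, map_sum]
      exact Finset.sum_congr rfl fun i _ => (res_smul (pre O B) g.op _ _).symm
    apply PresheafOfModules.injective_of_mono a (op V)
    show lin a (op V) (α k) = lin a (op V) 0
    have h1 : lin a (op V) (α k) = ∑ q, b q k • res (pre O B) g.op (π (w q)) := by
      rw [Fintype.sum_sum_type]
      have hT : ∀ r : T, π (w (Sum.inr r)) = 0 := fun r => by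
        show π (-r.1.1.1) = 0
        rw [map_neg, LinearMap.mem_ker.1 r.1.1.2, neg_zero]
      simp only [hT, map_zero, smul_zero, Finset.sum_const_zero, add_zero]
      simp only [α, map_sum, map_smul]
      refine Finset.sum_congr rfl fun p _ => ?_
      congr 1
      rw [lin_res]
      simp [π, w]
    rw [h1, map_zero]
    calc ∑ q, b q k • res (pre O B) g.op (π (w q))
        = ∑ q, ∑ i : I, (b q k * ores O g.op (c i q)) • res (pre O B) g.op i.1 := by
          refine Finset.sum_congr rfl fun q _ => ?_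
          rw [← key _ ⟨q, rfl⟩, Finsupp.linearCombination_apply,
            Finsupp.sum_fintype _ _ (fun _ => by simp), Finset.smul_sum]
          exact Finset.sum_congr rfl fun i _ => smul_smul _ _ _
      _ = 0 := by
          rw [Finset.sum_comm]
          exact Finset.sum_eq_zero fun i _ => by rw [← Finset.sum_smul, hb, zero_smul]
  show res (pre O A ⊗ pre O F) g.op _ = 0
  refine (map_sum (res (pre O A ⊗ pre O F) g.op) (fun p => p.1 ⊗ₜ[R] p.2) S).trans ?_
  rw [← Finset.sum_coe_sort S]
  calc ∑ p : S, res (pre O A ⊗ pre O F) g.op (p.1.1 ⊗ₜ[R] p.1.2)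
      = ∑ p : S, ∑ k, (b (Sum.inl p) k • res (pre O A) g.op p.1.1) ⊗ₜ[O.obj.obj (op V)] t k := by
        refine Finset.sum_congr rfl fun p _ => ?_
        rw [res_tmul, show res (pre O F) g.op p.1.2 = ∑ k, b (Sum.inl p) k • t k from ht (Sum.inl p),
          TensorProduct.tmul_sum]
        exact Finset.sum_congr rfl fun k _ => (TensorProduct.smul_tmul _ _ _).symm
    _ = ∑ k, α k ⊗ₜ[O.obj.obj (op V)] t k := by
        rw [Finset.sum_comm]
        exact Finset.sum_congr rfl fun k _ => (TensorProduct.sum_tmul _ _ _).symm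
    _ = 0 := Finset.sum_eq_zero fun k _ => by rw [hα, TensorProduct.zero_tmul]

/-- A flat module keeps monomorphisms of presheaves injective after sheafifying the tensor product. -/
theorem mono_sheafify_whiskerRight (hF : ModSite.IsFlat F) {P Q : PMod O.obj} (m : P ⟶ Q) [Mono m] :
    Mono ((shF O).map (m ▷ pre O F)) := by
  haveI : PreservesFiniteLimits (shF O) :=
    inferInstanceAs (PreservesFiniteLimits (PresheafOfModules.sheafification.{u} (𝟙 (ModSite.ringSh O).obj)))
  haveI : Mono ((shF O).map m) := inferInstance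
  haveI : Mono ((shF O).map ((preFunctor O).map ((shF O).map m) ▷ pre O F)) :=
    (isFlat_iff_preservesMono O F).1 hF ((shF O).map m)
  have h : (shF O).map (m ▷ pre O F) ≫ (shF O).map (shUnit O Q ▷ pre O F) =
      (shF O).map (shUnit O P ▷ pre O F) ≫
        (shF O).map ((preFunctor O).map ((shF O).map m) ▷ pre O F) := by
    rw [← Functor.map_comp, ← Functor.map_comp, ← comp_whiskerRight, ← comp_whiskerRight,
      shUnit_naturality]
  haveI : Mono ((shF O).map (m ▷ pre O F) ≫ (shF O).map (shUnit O Q ▷ pre O F)) := by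
    rw [h]
    exact mono_comp _ _
  exact mono_of_mono _ ((shF O).map (shUnit O Q ▷ pre O F))

/-- Elements killed after tensoring with a flat module locally come from the kernel. -/
theorem exists_mem_range_rTensor_ker (hF : ModSite.IsFlat F) {A B : PMod O.obj} (φ : A ⟶ B) {U : C}
    (x : (A.obj (op U) : Type u) ⊗[O.obj.obj (op U)] ((pre O F).obj (op U) : Type u))
    (hx : LinearMap.rTensor ((pre O F).obj (op U)) (lin φ (op U)) x = 0) :
    ∃ S ∈ J U, ∀ ⦃V : C⦄ (g : V ⟶ U), S g →
      ∃ z, LinearMap.rTensor ((pre O F).obj (op V)) (LinearMap.ker (lin φ (op V))).subtype z =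
        res (A ⊗ pre O F) g.op x := by
  let p := Abelian.factorThruImage φ
  let m := Abelian.image.ι φ
  haveI := mono_sheafify_whiskerRight O F hF m
  let y := LinearMap.rTensor ((pre O F).obj (op U)) (lin p (op U)) x
  have hpm : ∀ X, (lin m X).comp (lin p X) = lin φ X := fun X =>
    congr_arg (fun k => (PresheafOfModules.Hom.app k X).hom) (Abelian.image.fac φ)
  have hy : LinearMap.rTensor ((pre O F).obj (op U)) (lin m (op U)) y = 0 := by
    rw [← LinearMap.rTensor_comp_apply, hpm]
    exact hx
  haveI := ((J.W_iff_isLocallyBijective _).1 (W_shUnit O (Abelian.image φ ⊗ pre O F))).1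
  have hy' : lin (shUnit O (Abelian.image φ ⊗ pre O F)) (op U) y = 0 := by
    apply PresheafOfModules.injective_of_mono
      ((SheafOfModules.forget (ModSite.ringSh O)).map ((shF O).map (m ▷ pre O F))) (op U)
    refine Eq.trans ?_ (map_zero _).symm
    refine (congr_arg (fun k => (PresheafOfModules.Hom.app k (op U)).hom y)
      (shUnit_naturality O (m ▷ pre O F))).symm.trans ?_
    exact (congr_arg (lin (shUnit O (B ⊗ pre O F)) (op U)) hy).trans
      (map_zero (lin (shUnit O (B ⊗ pre O F)) (op U)))
  refine ⟨_, zeroSieve_mem_of_isLocallyInjective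
    (shUnit O (Abelian.image φ ⊗ pre O F)) J y hy', fun V g hg => ?_⟩
  have hsurj : Function.Surjective (lin p (op V)) := PresheafOfModules.surjective_of_epi p (op V)
  have h0 : LinearMap.rTensor ((pre O F).obj (op V)) (lin p (op V)) (res (A ⊗ pre O F) g.op x) = 0 :=
    (lin_res (p ▷ pre O F) g.op x).trans hg
  obtain ⟨z, hz⟩ := (rTensor_exact ((pre O F).obj (op V))
    (LinearMap.exact_subtype_ker_map (lin p (op V))) hsurj _).1 h0
  have hle : LinearMap.ker (lin p (op V)) ≤ LinearMap.ker (lin φ (op V)) := by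
    rw [← hpm]
    exact LinearMap.ker_le_ker_comp _ _
  refine ⟨LinearMap.rTensor _ (Submodule.inclusion hle) z, ?_⟩
  rw [← LinearMap.rTensor_comp_apply, Submodule.subtype_comp_inclusion]
  exact hz

/-- The presheaf of indices of the free presheaf on copies of a representable. -/
def idxPresheaf (U : C) (ι : Type u) : Cᵒᵖ ⥤ Type u where
  obj W := (W.unop ⟶ U) × ι
  map h := ↾fun p => (h.unop ≫ p.1, p.2)
  map_id W := by ext p <;> simp
  map_comp h k := by ext p <;> simp

/-- Flatness gives the equational criterion. -/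
theorem goodSieve_mem_of_isFlat (hF : ModSite.IsFlat F) (U : C) (ι : Type u) [Fintype ι]
    (f : ι → O.obj.obj (op U)) (s : ι → (pre O F).obj (op U)) (hs : ∑ j, f j • s j = 0) :
    goodSieve O F (fun _ : PUnit.{u + 1} => f) s ∈ J U := by
  classical
  let A : PMod O.obj :=
    (PresheafOfModules.free (O.obj ⋙ forget₂ CommRingCat RingCat)).obj (idxPresheaf U ι)
  let d : idxPresheaf U ι ⟶ (freeAt O U).presheaf ⋙ forget Ab :=
    { app := fun W => ↾fun p =>
        (Finsupp.single p.1 (ores O p.1.op (f p.2)) : (W.unop ⟶ U) →₀ O.obj.obj W)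
      naturality := fun W W' h => by
        ext p
        show (Finsupp.single (h.unop ≫ p.1) (ores O (h.unop ≫ p.1).op (f p.2)) :
          (W'.unop ⟶ U) →₀ O.obj.obj W') =
          res (freeAt O U) h (Finsupp.single p.1 (ores O p.1.op (f p.2)))
        rw [← Finsupp.smul_single_one p.1 (ores O p.1.op (f p.2))]
        refine Eq.trans ?_ (res_smul (freeAt O U) h (ores O p.1.op (f p.2))
          (Finsupp.single p.1 1)).symm
        show _ = (O.obj.map h).hom _ • res (freeAt O U) h (ModuleCat.freeMk p.1)
        rw [show res (freeAt O U) h (ModuleCat.freeMk p.1) = ModuleCat.freeMk (h.unop ≫ p.1) from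
          ModuleCat.freeDesc_apply _ _]
        show _ = _ • Finsupp.single _ _
        refine (Finsupp.smul_single_one (h.unop ≫ p.1) _).symm.trans ?_
        congr 1
        exact ores_comp O p.1.op h (f p.2) }
  let φ : A ⟶ freeAt O U := PresheafOfModules.freeObjDesc d
  have hφ : ∀ (W : Cᵒᵖ) (p : (W.unop ⟶ U) × ι),
      lin φ W (Finsupp.single p 1 : (W.unop ⟶ U) × ι →₀ O.obj.obj W) =
        (Finsupp.single p.1 (ores O p.1.op (f p.2)) : (W.unop ⟶ U) →₀ O.obj.obj W) := fun W p =>
    ModuleCat.freeDesc_apply _ p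
  let e : ι → A.obj (op U) := fun j => (Finsupp.single (𝟙 U, j) 1 : (U ⟶ U) × ι →₀ O.obj.obj (op U))
  let x : (A.obj (op U) : Type u) ⊗[O.obj.obj (op U)] ((pre O F).obj (op U) : Type u) :=
    ∑ j, e j ⊗ₜ[O.obj.obj (op U)] s j
  have hx : LinearMap.rTensor ((pre O F).obj (op U)) (lin φ (op U)) x = 0 := by
    let one : (freeAt O U).obj (op U) := (Finsupp.single (𝟙 U) 1 : (U ⟶ U) →₀ O.obj.obj (op U))
    have h1 : ∀ j, lin φ (op U) (e j) = f j • one := fun j => by
      refine (hφ (op U) (𝟙 U, j)).trans ?_
      show _ = f j • (Finsupp.single (𝟙 U) 1 : (U ⟶ U) →₀ O.obj.obj (op U))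
      rw [Finsupp.smul_single_one, op_id, ores_id]
    simp only [x, map_sum, LinearMap.rTensor_tmul, h1, TensorProduct.smul_tmul]
    rw [← TensorProduct.tmul_sum, hs, TensorProduct.tmul_zero]
  obtain ⟨S, hS, hS'⟩ := exists_mem_range_rTensor_ker O F hF φ x hx
  refine J.superset_covering (fun V g hg => ?_) hS
  obtain ⟨z, hz⟩ := hS' g hg
  obtain ⟨T, rfl⟩ := TensorProduct.exists_finset z
  let R := O.obj.obj (op V)
  let π : ι → ((A.obj (op V) : Type u) →ₗ[R] R) :=
    fun j => Finsupp.lapply (M := R) (R := R) ((g, j) : (V ⟶ U) × ι)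
  have hres : ∀ j, res A g.op (e j) =
      (Finsupp.single ((g, j) : (V ⟶ U) × ι) 1 : (V ⟶ U) × ι →₀ R) := fun j => by
    refine (ModuleCat.freeDesc_apply _ ((𝟙 U, j) : (U ⟶ U) × ι)).trans ?_
    show (Finsupp.single ((g ≫ 𝟙 U, j) : (V ⟶ U) × ι) 1 : (V ⟶ U) × ι →₀ R) = _
    rw [Category.comp_id]
  refine ⟨T, inferInstance, fun r => r.1.2, fun j r => π j r.1.1.1, fun j => ?_, fun _ r => ?_⟩
  · let L : ((A.obj (op V) : Type u) ⊗[R] ((pre O F).obj (op V) : Type u)) →ₗ[R]
        ((pre O F).obj (op V) : Type u) :=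
      (TensorProduct.lid R ((pre O F).obj (op V))).toLinearMap ∘ₗ
        LinearMap.rTensor ((pre O F).obj (op V)) (π j)
    have e1 : ∑ k, π j (res A g.op (e k)) • res (pre O F) g.op (s k) = res (pre O F) g.op (s j) := by
      rw [Finset.sum_eq_single j]
      · rw [hres]
        exact (congr_arg (· • res (pre O F) g.op (s j))
          (Finsupp.single_eq_same : (Finsupp.single ((g, j) : (V ⟶ U) × ι) (1 : R)) (g, j) = 1)).trans
            (one_smul R (res (pre O F) g.op (s j)))
      · intro k _ hk
        rw [hres]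
        exact (congr_arg (· • res (pre O F) g.op (s k))
          (Finsupp.single_eq_of_ne (fun h => hk (congr_arg Prod.snd h).symm) :
            (Finsupp.single ((g, k) : (V ⟶ U) × ι) (1 : R)) (g, j) = 0)).trans
              (zero_smul R (res (pre O F) g.op (s k)))
      · exact fun h => absurd (Finset.mem_univ j) h
    have e2 : L (res (A ⊗ pre O F) g.op x) = res (pre O F) g.op (s j) :=
      (congr_arg L (map_sum (res (A ⊗ pre O F) g.op) _ _)).trans
        ((map_sum L _ _).trans e1)
    refine e2.symm.trans ((congr_arg L hz).symm.trans ?_)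
    refine ((congr_arg L (map_sum (LinearMap.rTensor ((pre O F).obj (op V))
      (LinearMap.ker (lin φ (op V))).subtype) _ _)).trans (map_sum L _ _)).trans ?_
    exact (Finset.sum_coe_sort T (fun r => π j r.1.1 • r.2)).symm
  · let φ' : ((V ⟶ U) × ι →₀ R) →ₗ[R] ((V ⟶ U) →₀ R) := lin φ (op V)
    let ρ : ((V ⟶ U) →₀ R) →ₗ[R] R := Finsupp.lapply g
    let π' : ι → (((V ⟶ U) × ι →₀ R) →ₗ[R] R) := fun j => Finsupp.lapply (g, j)
    have key : ρ.comp φ' = ∑ j, ores O g.op (f j) • π' j := by
      refine Finsupp.lhom_ext fun p b => ?_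
      rw [← Finsupp.smul_single_one p b, map_smul, map_smul, LinearMap.comp_apply,
        show φ' (Finsupp.single p 1) = Finsupp.single p.1 (ores O p.1.op (f p.2)) from hφ (op V) p]
      obtain ⟨g', j'⟩ := p
      by_cases hg' : g' = g
      · subst hg'
        simp [ρ, π', Finsupp.single_apply, Prod.ext_iff]
      · simp [ρ, π', Finsupp.single_apply, Prod.ext_iff, hg']
    have h := LinearMap.congr_fun key r.1.1.1
    rw [LinearMap.comp_apply, show φ' r.1.1.1 = 0 from r.1.1.2, map_zero, LinearMap.sum_apply] at h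
    refine Eq.trans ?_ h.symm
    exact Finset.sum_congr rfl fun j _ => mul_comm _ _

theorem isFlat_iff_goodSieve :
    ModSite.IsFlat F ↔ ∀ (U : C) (ι : Type u) [Fintype ι] (f : ι → O.obj.obj (op U))
      (s : ι → (pre O F).obj (op U)), ∑ j, f j • s j = 0 →
      goodSieve O F (fun _ : PUnit.{u + 1} => f) s ∈ J U :=
  ⟨fun h => goodSieve_mem_of_isFlat O F h, isFlat_of_single O F⟩

theorem goodSieve_apply_iff_fin {U V : C} {n : ℕ} (f : Fin n → O.obj.obj (op U))
    (s : Fin n → (pre O F).obj (op U)) (g : V ⟶ U) :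
    goodSieve O F (fun (_ : PUnit.{u + 1}) (j : ULift.{u} (Fin n)) => f j.down) (fun j => s j.down) g ↔
      ∃ (l : ℕ) (t : Fin l → (pre O F).obj (op V)) (a : Fin n → Fin l → O.obj.obj (op V)),
        (∀ j, res (pre O F) g.op (s j) = ∑ k, a j k • t k) ∧
          ∀ k, ∑ j, a j k * ores O g.op (f j) = 0 := by
  constructor
  · rintro ⟨ν, _, t, a, ht, ha⟩
    let e := (Fintype.equivFin ν).symm
    refine ⟨_, t ∘ e, fun j k => a ⟨j⟩ (e k), fun j => ?_, fun k => ?_⟩
    · exact (ht ⟨j⟩).trans (e.sum_comp fun k => a ⟨j⟩ k • t k).symm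
    · exact (Equiv.ulift.symm.sum_comp fun j => a j (e k) * ores O g.op (f j.down)).trans
        (ha PUnit.unit (e k))
  · rintro ⟨l, t, a, ht, ha⟩
    refine ⟨ULift.{u} (Fin l), inferInstance, fun k => t k.down, fun j k => a j.down k.down,
      fun j => ?_, fun _ k => ?_⟩
    · exact (ht j.down).trans (Equiv.ulift.sum_comp fun k => a j.down k • t k).symm
    · exact (Equiv.ulift.sum_comp fun j => a j k.down * ores O g.op (f j)).trans (ha k.down)

/-- The equational criterion of flatness. -/
theorem isFlat_iff_equational :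
    ModSite.IsFlat F ↔ ∀ (U : C) (n : ℕ) (f : Fin n → O.obj.obj (op U))
      (s : Fin n → (pre O F).obj (op U)), ∑ j, f j • s j = 0 →
      ∃ S ∈ J U, ∀ ⦃V : C⦄ (g : V ⟶ U), S g →
        ∃ (l : ℕ) (t : Fin l → (pre O F).obj (op V)) (a : Fin n → Fin l → O.obj.obj (op V)),
          (∀ j, res (pre O F) g.op (s j) = ∑ k, a j k • t k) ∧
            ∀ k, ∑ j, a j k * ores O g.op (f j) = 0 := by
  rw [isFlat_iff_goodSieve]
  constructor
  · intro h U n f s hs
    exact ⟨_, h U (ULift.{u} (Fin n)) (fun j => f j.down) (fun j => s j.down)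
      ((Equiv.ulift.sum_comp fun j => f j • s j).trans hs),
      fun V g hg => (goodSieve_apply_iff_fin O F f s g).1 hg⟩
  · intro h U ι _ f s hs
    let e := (Fintype.equivFin ι).symm
    obtain ⟨S, hS, hS'⟩ := h U _ (f ∘ e) (s ∘ e) ((e.sum_comp fun j => f j • s j).trans hs)
    refine J.superset_covering (fun V g hg => ?_) hS
    obtain ⟨l, t, a, ht, ha⟩ := hS' g hg
    refine ⟨ULift.{u} (Fin l), inferInstance, fun k => t k.down, fun j k => a (e.symm j) k.down,
      fun j => ?_, fun _ k => ?_⟩
    · have h2 := ht (e.symm j)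
      rw [Function.comp_apply, Equiv.apply_symm_apply] at h2
      exact h2.trans (Equiv.ulift.sum_comp fun k => a (e.symm j) k • t k).symm
    · refine (e.sum_comp fun j => a (e.symm j) k.down * ores O g.op (f j)).symm.trans ?_
      simpa using ha k.down

end Groth.Agent.ModTensor
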