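import Mathlib

/-!
# Tensoring presheaves of modules preserves locally bijective maps
-/

set_option linter.style.haveILetI false

universe u v₁ u₁

open CategoryTheory Opposite MonoidalCategory TensorProduct

namespace Groth.Agent.ModTensor

variable {C : Type u₁} [Category.{v₁} C] {R : Cᵒᵖ ⥤ CommRingCat.{u}}

/-- Presheaves of modules over a presheaf of commutative rings. -/
abbrev PMod (R : Cᵒᵖ ⥤ CommRingCat.{u}) := PresheafOfModules.{u} (R ⋙ forget₂ _ RingCat)

/-- Restriction of sections, as an additive map. -/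
noncomputable def res (M : PMod R) {X Y : Cᵒᵖ} (h : X ⟶ Y) : M.obj X →+ M.obj Y :=
  (M.presheaf.map h).hom

theorem res_smul (M : PMod R) {X Y : Cᵒᵖ} (h : X ⟶ Y) (r : R.obj X) (m : M.obj X) :
    res M h (r • m) = (R.map h).hom r • res M h m :=
  M.map_smul h r m

theorem res_tmul (M N : PMod R) {X Y : Cᵒᵖ} (h : X ⟶ Y) (m : M.obj X) (n : N.obj X) :
    res (M ⊗ N) h ((m ⊗ₜ[R.obj X] n : (M.obj X : Type u) ⊗[R.obj X] (N.obj X : Type u))) =
      ((res M h m) ⊗ₜ[R.obj Y] (res N h n) : (M.obj Y : Type u) ⊗[R.obj Y] (N.obj Y : Type u)) :=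
  rfl

variable {M M' : PMod R} (f : M ⟶ M') (N : PMod R)

/-- The linear map underlying `f` on sections. -/
noncomputable abbrev lin (X : Cᵒᵖ) : (M.obj X : Type u) →ₗ[R.obj X] (M'.obj X : Type u) :=
  (f.app X).hom

theorem lin_res {X Y : Cᵒᵖ} (h : X ⟶ Y) (m : M.obj X) :
    lin f Y (res M h m) = res M' h (lin f X m) :=
  PresheafOfModules.naturality_apply f h m

theorem whiskerRight_apply (X : Cᵒᵖ) (t : (M.obj X : Type u) ⊗[R.obj X] (N.obj X : Type u)) :
    (f ▷ N).app X t = LinearMap.rTensor (N.obj X) (lin f X) t := rfl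

variable (J : GrothendieckTopology C)

theorem isLocallySurjective_whiskerRight
    [Presheaf.IsLocallySurjective J ((PresheafOfModules.toPresheaf _).map f)] :
    Presheaf.IsLocallySurjective J ((PresheafOfModules.toPresheaf _).map (f ▷ N)) := by
  refine ⟨fun {U} t => ?_⟩
  change (M'.obj (op U) : Type u) ⊗[R.obj (op U)] (N.obj (op U) : Type u) at t
  induction t using TensorProduct.induction_on with
  | zero =>
    refine J.superset_covering (fun V g _ => ?_) (J.top_mem U)
    exact ⟨0, (map_zero (((f ▷ N).app (op V)).hom)).trans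
      (map_zero (res (M' ⊗ N) g.op)).symm⟩
  | tmul m n =>
    refine J.superset_covering (fun V g hg => ?_)
      (Presheaf.imageSieve_mem J ((PresheafOfModules.toPresheaf _).map f) m)
    obtain ⟨l, hl⟩ := hg
    refine ⟨((l : M.obj (op V)) ⊗ₜ[R.obj (op V)] (res N g.op n) :
      (M.obj (op V) : Type u) ⊗[R.obj (op V)] (N.obj (op V) : Type u)), ?_⟩
    exact congr_arg (fun x => (x ⊗ₜ[R.obj (op V)] (res N g.op n) :
      (M'.obj (op V) : Type u) ⊗[R.obj (op V)] (N.obj (op V) : Type u))) hl
  | add a b ha hb =>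
    refine J.superset_covering (fun V g hg => ?_) (J.intersection_covering ha hb)
    obtain ⟨la, hla⟩ := hg.1
    obtain ⟨lb, hlb⟩ := hg.2
    exact ⟨la + lb, (map_add (((f ▷ N).app (op V)).hom) la lb).trans
      ((congr_arg₂ (· + ·) hla hlb).trans (map_add (res (M' ⊗ N) g.op) a b).symm)⟩

/-- The sieve on which a section of a presheaf of modules vanishes. -/
def zeroSieve (P : PMod R) {U : C} (x : P.obj (op U)) : Sieve U where
  arrows V g := res P g.op x = 0
  downward_closed := by
    intro V W g hg k
    show res P (k ≫ g).op x = 0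
    rw [show res P (k ≫ g).op x = res P k.op (res P g.op x) from
      ConcreteCategory.congr_hom (P.presheaf.map_comp g.op k.op) x, hg, map_zero]

theorem pullback_zeroSieve (P : PMod R) {U V : C} (g : V ⟶ U) (x : P.obj (op U)) :
    (zeroSieve P x).pullback g = zeroSieve P (res P g.op x) := by
  ext W k
  show res P (k ≫ g).op x = 0 ↔ res P k.op (res P g.op x) = 0
  rw [show res P (k ≫ g).op x = res P k.op (res P g.op x) from
      ConcreteCategory.congr_hom (P.presheaf.map_comp g.op k.op) x]

theorem zeroSieve_mem_of_isLocallyInjective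
    [Presheaf.IsLocallyInjective J ((PresheafOfModules.toPresheaf _).map f)] {U : C}
    (k : M.obj (op U)) (hk : lin f (op U) k = 0) : zeroSieve M k ∈ J U := by
  refine J.superset_covering (fun V g hg => ?_)
    (Presheaf.equalizerSieve_mem J ((PresheafOfModules.toPresheaf _).map f) k (0 : M.obj (op U))
      (hk.trans (map_zero (lin f (op U))).symm))
  exact hg.trans (map_zero (res M g.op))

theorem zeroSieve_tensor_mem
    [Presheaf.IsLocallyInjective J ((PresheafOfModules.toPresheaf _).map f)]
    [Presheaf.IsLocallySurjective J ((PresheafOfModules.toPresheaf _).map f)] {U : C}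
    (x : (M.obj (op U) : Type u) ⊗[R.obj (op U)] (N.obj (op U) : Type u))
    (hx : LinearMap.rTensor (N.obj (op U)) (lin f (op U)) x = 0) :
    zeroSieve (M ⊗ N) x ∈ J U := by
  classical
  obtain ⟨P, hP, t, rfl⟩ := TensorProduct.exists_of_fg x
  let A := lin f (op U)
  let j : P →ₗ[R.obj (op U)] P.map A := A.restrict (fun p hp => ⟨p, hp, rfl⟩)
  have hj : (P.map A).subtype.comp j = A.comp P.subtype := rfl
  have h0 : LinearMap.rTensor (N.obj (op U)) (P.map A).subtype
      (LinearMap.rTensor (N.obj (op U)) j t) = 0 := by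
    rw [← LinearMap.rTensor_comp_apply, hj, LinearMap.rTensor_comp_apply]
    exact hx
  obtain ⟨Q, hQ, hQfg, hQ0⟩ := TensorProduct.eq_zero_of_fg_of_subtype_eq_zero (hP.map A) h0
  obtain ⟨s, hs⟩ := hQfg
  let S : Sieve U := s.inf fun q => Presheaf.imageSieve ((PresheafOfModules.toPresheaf _).map f)
    (q : M'.obj (op U))
  have hS : S ∈ J U := Finset.inf_induction (p := fun S => S ∈ J U) (J.top_mem U)
    (fun a ha b hb => J.intersection_covering ha hb)
    (fun q _ => Presheaf.imageSieve_mem J ((PresheafOfModules.toPresheaf _).map f) (U := op U)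
      (q : M'.obj (op U)))
  refine J.transitive hS _ fun V g hg => ?_
  rw [pullback_zeroSieve]
  have hQI : ∀ q ∈ Q, res M' g.op q ∈ LinearMap.range (lin f (op V)) := by
    intro q hq
    rw [← hs] at hq
    induction hq using Submodule.span_induction with
    | mem q hq =>
      obtain ⟨l, hl⟩ := (Finset.inf_le hq : S ≤ _) _ hg
      exact ⟨l, hl⟩
    | zero => rw [map_zero]; exact zero_mem _
    | add a b _ _ ha hb => rw [map_add]; exact add_mem ha hb
    | smul r a _ ha => rw [res_smul]; exact Submodule.smul_mem _ _ ha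
  let ρ : Q →+ LinearMap.range (lin f (op V)) :=
    { toFun := fun q => ⟨res M' g.op q.1, hQI q.1 q.2⟩
      map_zero' := Subtype.ext (map_zero (res M' g.op))
      map_add' := fun a b => Subtype.ext (map_add (res M' g.op) a.1 b.1) }
  let Φ : (Q : Type u) ⊗[R.obj (op U)] (N.obj (op U) : Type u) →+
      (LinearMap.range (lin f (op V)) : Type u) ⊗[R.obj (op V)] (N.obj (op V) : Type u) :=
    TensorProduct.liftAddHom
      (AddMonoidHom.mk' (fun q => AddMonoidHom.mk' (fun n => ρ q ⊗ₜ[R.obj (op V)] res N g.op n)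
          (fun a b => by simp [TensorProduct.tmul_add]))
        (fun a b => by ext n; simp [TensorProduct.add_tmul]))
      (fun r q n => by
        show ρ (r • q) ⊗ₜ[R.obj (op V)] res N g.op n = ρ q ⊗ₜ[R.obj (op V)] res N g.op (r • n)
        rw [res_smul, show ρ (r • q) = (R.map g.op).hom r • ρ q from
          Subtype.ext (res_smul M' g.op r q.1), TensorProduct.smul_tmul])
  let B := lin f (op V)
  have key : ∀ t : (P : Type u) ⊗[R.obj (op U)] (N.obj (op U) : Type u),
      Φ (LinearMap.rTensor (N.obj (op U)) (Submodule.inclusion hQ)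
          (LinearMap.rTensor (N.obj (op U)) j t)) =
        LinearMap.rTensor (N.obj (op V)) B.rangeRestrict
          (res (M ⊗ N) g.op (LinearMap.rTensor (N.obj (op U)) P.subtype t)) := by
    intro t
    induction t using TensorProduct.induction_on with
    | zero =>
      simp only [map_zero]
      exact ((congr_arg _ (map_zero (res (M ⊗ N) g.op))).trans (map_zero _)).symm
    | tmul p n =>
      show ρ ⟨A p.1, _⟩ ⊗ₜ[R.obj (op V)] res N g.op n =
        B.rangeRestrict (res M g.op p.1) ⊗ₜ[R.obj (op V)] res N g.op n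
      congr 1
      exact Subtype.ext (lin_res f g.op p.1).symm
    | add a b ha hb =>
      simp only [map_add, ha, hb]
      exact ((congr_arg _ (map_add (res (M ⊗ N) g.op) _ _)).trans (map_add _ _ _)).symm
  have h1 : LinearMap.rTensor (N.obj (op V)) B.rangeRestrict
      (res (M ⊗ N) g.op (LinearMap.rTensor (N.obj (op U)) P.subtype t)) = 0 := by
    rw [← key, hQ0, map_zero]
  obtain ⟨z, hz⟩ := (rTensor_exact (N.obj (op V))
    (LinearMap.exact_subtype_ker_map B.rangeRestrict) B.surjective_rangeRestrict _).1 h1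
  rw [← hz]
  clear hz h1
  induction z using TensorProduct.induction_on with
  | zero =>
    refine J.superset_covering (fun W k _ => ?_) (J.top_mem V)
    exact (congr_arg (res (M ⊗ N) k.op) (map_zero _)).trans (map_zero _)
  | tmul k n =>
    refine J.superset_covering (fun W h hh => ?_)
      (zeroSieve_mem_of_isLocallyInjective f J (k.1 : M.obj (op V))
        (congr_arg Subtype.val (LinearMap.mem_ker.1 k.2)))
    show (res M h.op k.1 ⊗ₜ[R.obj (op W)] res N h.op n) = 0
    rw [show res M h.op k.1 = 0 from hh, TensorProduct.zero_tmul]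
  | add a b ha hb =>
    refine J.superset_covering (fun W k hk => ?_) (J.intersection_covering ha hb)
    show res (M ⊗ N) k.op _ = 0
    rw [map_add]
    exact (map_add (res (M ⊗ N) k.op) _ _).trans (by rw [hk.1, hk.2, add_zero])

theorem isLocallyInjective_whiskerRight
    [Presheaf.IsLocallyInjective J ((PresheafOfModules.toPresheaf _).map f)]
    [Presheaf.IsLocallySurjective J ((PresheafOfModules.toPresheaf _).map f)] :
    Presheaf.IsLocallyInjective J ((PresheafOfModules.toPresheaf _).map (f ▷ N)) := by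
  refine ⟨fun {X} x y h => ?_⟩
  obtain ⟨U⟩ := X
  change (M.obj (op U) : Type u) ⊗[R.obj (op U)] (N.obj (op U) : Type u) at x y
  refine J.superset_covering (fun V g hg => ?_)
    (zeroSieve_tensor_mem f N J (x - y) (by rw [map_sub, sub_eq_zero]; exact h))
  exact sub_eq_zero.1 ((map_sub (res (M ⊗ N) g.op) x y).symm.trans hg)

theorem W_whiskerRight [HasSheafify J AddCommGrpCat.{u}] [J.WEqualsLocallyBijective AddCommGrpCat.{u}]
    (hf : J.W ((PresheafOfModules.toPresheaf _).map f)) :
    J.W ((PresheafOfModules.toPresheaf _).map (f ▷ N)) := by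
  rw [J.W_iff_isLocallyBijective] at hf ⊢
  haveI := hf.1
  haveI := hf.2
  exact ⟨isLocallyInjective_whiskerRight f N J, isLocallySurjective_whiskerRight f N J⟩

end Groth.Agent.ModTensor
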